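import Cfsg.Agent.Small.DegreeGraph.BlockThree
import Cfsg.Agent.Small.DegreeGraph.Core

/-!
# The principal 13-block of a simple group of order 5616
-/

set_option autoImplicit false
set_option linter.unusedSectionVars false

namespace Cfsg.Lib.Small.DegreeGraph.Order5616

open Cfsg.Lib.Chars Cfsg.Lib.Blocks Cfsg.Lib.Blocks.SmallOrder Cfsg.Lib.Blocks.SylowCount
  Cfsg.Lib.Blocks.DegreeEquation
open scoped ComplexConjugate _root_.Classical

universe u

theorem kill_27 : checkN 13 432 75 27 = true := by decide +kernel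

theorem terms_one : terms 13 432 5616 1 75 1 = [-12, 27] := by decide +kernel

theorem terms_three : terms 13 432 5616 1 75 3 = [16, -36] := by decide +kernel

theorem counts (n : ℕ) (h : n ∣ 432) (h' : n % 13 = 1) : n = 1 ∨ n = 27 ∨ n = 144 := by
  have : n ∈ Nat.divisors 432 := Nat.mem_divisors.2 ⟨h, by norm_num⟩
  revert h' h; revert n
  decide +kernel

variable {G : Type u} [Group G] [Fintype G] [IsSimpleGroup G] [Fact (Nat.Prime 13)]

/-- The principal block. -/
structure Setup (M : Ideal AlgInt) (C : Cyc G 13) (ν : (ZMod 13)ˣ → IrrCharacter G)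
    (a b : IrrCharacter G) : Prop where
  three : Three M C ν 1 a b
  card : Nat.card G = 5616
  idx_eq : idx C = 144
  sign_a : C.bI a C.oneV 1 = -1
  sign_b : C.bI b C.oneV 1 = 1
  deg_a : deg (a : G → ℂ) = 12
  deg_b : deg (b : G → ℂ) = 27
  deg_exc : deg (ν 1 : G → ℂ) = 16

theorem exists_setup (hG : Nat.card G = 5616) :
    ∃ (M : Ideal AlgInt) (C : Cyc G 13) (ν : (ZMod 13)ˣ → IrrCharacter G) (a b : IrrCharacter G),
      Setup M C ν a b := by
  have hnc : ¬ ∀ a b : G, a * b = b * a :=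
    Cfsg.Lib.Small.not_comm_of_isSimple (by rw [hG]; norm_num)
  obtain ⟨P⟩ : Nonempty (Sylow 13 G) := inferInstance
  obtain ⟨C, hC, -, hidx, hm, he2⟩ := exists_core hnc (m := 432) (by rw [hG]) (by norm_num) P
  obtain ⟨h1, h2⟩ := Cfsg.Lib.Small.sylow_facts P (a := 1) (m := 432) (by rw [hG]; norm_num) (by norm_num)
  have h27 : Nat.card (Sylow 13 G) ≠ 27 := fun e => by
    have h3 := checkN_card_sylow (not_isCyclic_of_not_comm hnc) 13 432 75 (by rw [hG]) (by norm_num)
      (by norm_num)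
    rw [e, kill_27] at h3
    exact Bool.noConfusion h3
  have hn1 := Cfsg.Lib.Small.card_sylow_ne_one (p := 13) hnc (by rw [hG]; norm_num)
  have h144 : idx C = 144 := by
    rw [hidx]
    rcases counts _ h1 h2 with e | e | e
    exacts [absurd e hn1, absurd e h27, e]
  rw [h144] at hm
  have hev : eC C * Nat.card C.V = 3 := by omega
  have he : eC C = 3 := by
    rcases (Nat.dvd_prime Nat.prime_three).1 ⟨_, hev.symm⟩ with e | e
    · omega
    · exact e
  have hV : Nat.card C.V = 1 := by rw [he] at hev; omega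
  obtain ⟨M, hM⟩ := exists_isPModular (Fact.out : Nat.Prime 13)
  obtain ⟨ν, δ, hD⟩ := C.exists_orbitData hM C.oneV
  obtain ⟨a, b, hT, ha, hb, hc, hrel⟩ := exists_three hC hM hD hV he (by norm_num)
  rw [hG, h144, he, hV] at ha hb hc
  have hS : 5616 ≤ 75 * 75 := by norm_num
  have ma := mem_terms hS ha.1 ha.2
  have mb := mem_terms hS hb.1 hb.2
  have mc := mem_terms hS hc.1 hc.2
  norm_num only [terms_one] at ma mb
  norm_num only [terms_three] at mc
  simp only [List.mem_cons, List.not_mem_nil, or_false] at ma mb mc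
  have hsign : ∀ χ : IrrCharacter G, χ ∈ ({oneG G, a, b} : Finset (IrrCharacter G)) → ∀ z : ℕ,
      (sdeg C χ = z → C.bI χ C.oneV 1 = 1 ∧ deg (χ : G → ℂ) = z) ∧
      (sdeg C χ = -z → z ≠ 0 → C.bI χ C.oneV 1 = -1 ∧ deg (χ : G → ℂ) = z) := fun χ hχ z => by
    have := deg_irr_pos χ
    rcases hT.sign χ hχ with e | e <;> rw [sdeg, e] <;>
      refine ⟨fun h => ⟨?_, ?_⟩, fun h hz => ⟨?_, ?_⟩⟩ <;> omega
  have hδ : ∀ z : ℕ, δ * (deg (ν 1 : G → ℂ) : ℤ) = z → δ = 1 ∧ deg (ν 1 : G → ℂ) = z := fun z h => by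
    have := deg_irr_pos (ν 1)
    rcases hD.sign with e | e <;> rw [e] at h ⊢ <;> refine ⟨?_, ?_⟩ <;> omega
  obtain ⟨hδ1, hν⟩ := hδ 16 (by omega)
  subst hδ1
  rcases (show (sdeg C a = -12 ∧ sdeg C b = 27) ∨ (sdeg C a = 27 ∧ sdeg C b = -12) by omega) with
    ⟨e1, e2⟩ | ⟨e1, e2⟩
  · obtain ⟨s1, d1⟩ := (hsign a (by simp) 12).2 e1 (by norm_num)
    obtain ⟨s2, d2⟩ := (hsign b (by simp) 27).1 e2
    exact ⟨M, C, ν, a, b, hT, hG, h144, s1, s2, d1, d2, hν⟩
  · obtain ⟨s1, d1⟩ := (hsign b (by simp) 12).2 e2 (by norm_num)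
    obtain ⟨s2, d2⟩ := (hsign a (by simp) 27).1 e1
    refine ⟨M, C, ν, b, a, ⟨hM, hC, hD, hV, he, hT.five, ?_, hT.not_one, hT.ne_b, hT.ne_a, hT.ne_ab.symm⟩,
      hG, h144, s1, s2, d1, d2, hν⟩
    rw [hT.ord_eq, Finset.pair_comm a b]

namespace Setup

variable {M : Ideal AlgInt} {C : Cyc G 13} {ν : (ZMod 13)ˣ → IrrCharacter G} {a b : IrrCharacter G}
  (S : Setup M C ν a b)
include S

theorem hnc : ¬ ∀ a b : G, a * b = b * a :=
  Cfsg.Lib.Small.not_comm_of_isSimple (by rw [S.card]; norm_num)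

theorem card_exc : (Finset.univ.image ν).card = 4 := by
  have := S.three.card_exc
  omega

theorem card_y : Nat.card (Subgroup.centralizer ({C.y} : Set G)) = 13 :=
  card_centralizer_y C S.three.trivial_V

theorem regular_of_pow {g : G} {n : ℕ} (hn : g ^ n = 1) (h13 : ¬ 13 ∣ n) : ¬ 13 ∣ orderOf g :=
  fun hd => h13 (hd.trans (orderOf_dvd_of_pow_eq_one hn))

/-- The relation between the values on a regular element. -/
theorem exc_eq {g : G} (hg : ¬ 13 ∣ orderOf g) :
    (ν 1 : G → ℂ) g = 1 - (a : G → ℂ) g + (b : G → ℂ) g := by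
  have h1 := S.three.orth_y hg
  rw [S.sign_a, S.sign_b] at h1
  push_cast at h1
  linear_combination -h1

/-- The count of products equal to the singular element. -/
theorem count_regular {g k : G} (hg : ¬ 13 ∣ orderOf g) (hk : ¬ 13 ∣ orderOf k) :
    (Nat.card {w : G × G // IsConj g w.1 ∧ IsConj k w.2 ∧ w.1 * w.2 = C.y} : ℂ) * 5616 =
      (Nat.card {x : G // IsConj g x} : ℂ) * (Nat.card {x : G // IsConj k x} : ℂ) *
        (1 - (a : G → ℂ) g * (a : G → ℂ) k / 12 + (b : G → ℂ) g * (b : G → ℂ) k / 27 -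
          (ν 1 : G → ℂ) g * (ν 1 : G → ℂ) k / 16) := by
  rw [S.three.count_regular hg hk, S.card, S.sign_a, S.sign_b, S.deg_a, S.deg_b, S.deg_exc]
  push_cast
  ring

/-- The squares of the degrees outside the block. -/
theorem rest_deg : ∑ η ∈ S.three.rest, deg (η : G → ℂ) ^ 2 = 3718 := by
  have h1 := S.three.sum_deg
  rw [S.card, S.deg_a, S.deg_b, S.deg_exc, S.card_exc] at h1
  omega

end Setup

end Cfsg.Lib.Small.DegreeGraph.Order5616
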