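import Mathlib
import Cfsg.Agent.Recognition.CommGraphLThree.Ident

/-!
# Groups of order 48 with few centralisers of elements of order three
-/

set_option autoImplicit false
set_option maxRecDepth 8000

namespace Cfsg.Lib.Small.DegreeGraph.Order5616

open Subgroup

universe u

theorem perm_classes : ∀ σ : Equiv.Perm (Fin 4), σ * σ = 1 → σ ≠ 1 →
    (Equiv.Perm.sign σ = 1 → ∃ c : Equiv.Perm (Fin 4), Equiv.Perm.sign c = 1 ∧
      c * (Equiv.swap 0 1 * Equiv.swap 2 3) * c⁻¹ = σ) ∧
    (Equiv.Perm.sign σ = -1 → ∃ c : Equiv.Perm (Fin 4), c * Equiv.swap 0 1 * c⁻¹ = σ) := by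
  decide +kernel

theorem sign_cases : ∀ σ : Equiv.Perm (Fin 4), Equiv.Perm.sign σ = 1 ∨ Equiv.Perm.sign σ = -1 := by
  decide +kernel

theorem even_generated : ∀ σ : Equiv.Perm (Fin 4), Equiv.Perm.sign σ = 1 →
    ∃ a b : Equiv.Perm (Fin 4), a * a * a = 1 ∧ b * b * b = 1 ∧ σ = a * b := by
  decide +kernel

theorem card_cubes : (Finset.univ.filter fun σ : Equiv.Perm (Fin 4) => σ * σ * σ = 1).card = 9 := by
  decide +kernel

theorem card_even : (Finset.univ.filter fun σ : Equiv.Perm (Fin 4) => Equiv.Perm.sign σ = 1).card = 12 := by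
  decide +kernel

/-- The number of involutory lifts, given the numbers on the three classes. -/
def profile (e a b : ℕ) (σ : Equiv.Perm (Fin 4)) : ℕ :=
  if σ = 1 then e else if σ * σ = 1 then (if Equiv.Perm.sign σ = 1 then a else b) else 0

theorem profile_sum : ∀ e ∈ [2, 4], ∀ a ∈ [0, e], ∀ b ∈ [0, e],
    (∑ σ : Equiv.Perm (Fin 4), profile e a b σ) = e + 3 * a + 6 * b := by
  decide +kernel

theorem cent_data : ∀ σ : Equiv.Perm (Fin 4), σ ≠ 1 →
    ((Finset.univ.filter fun τ : Equiv.Perm (Fin 4) => τ * σ = σ * τ).card, orderOf σ) ∈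
      ([(4, 2), (3, 3), (4, 4), (8, 2)] : List (ℕ × ℕ)) ∧
    ((Finset.univ.filter fun τ : Equiv.Perm (Fin 4) => τ * σ = σ * τ).card = 8 →
      σ * σ = 1 ∧ Equiv.Perm.sign σ = 1 ∧
        ∃ τ : Equiv.Perm (Fin 4), τ * σ = σ * τ ∧ τ * τ = 1 ∧ Equiv.Perm.sign τ = 1 ∧ τ ≠ 1 ∧ τ ≠ σ) := by
  intro σ hσ
  have key : ∀ σ : Equiv.Perm (Fin 4), σ ≠ 1 →
      (((Finset.univ.filter fun τ : Equiv.Perm (Fin 4) => τ * σ = σ * τ).card = 4 ∧ σ * σ = 1) ∨
        ((Finset.univ.filter fun τ : Equiv.Perm (Fin 4) => τ * σ = σ * τ).card = 3 ∧ σ * σ * σ = 1) ∨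
        ((Finset.univ.filter fun τ : Equiv.Perm (Fin 4) => τ * σ = σ * τ).card = 4 ∧
          σ * σ ≠ 1 ∧ σ * σ * (σ * σ) = 1) ∨
        ((Finset.univ.filter fun τ : Equiv.Perm (Fin 4) => τ * σ = σ * τ).card = 8 ∧ σ * σ = 1)) ∧
      ((Finset.univ.filter fun τ : Equiv.Perm (Fin 4) => τ * σ = σ * τ).card = 8 →
        σ * σ = 1 ∧ Equiv.Perm.sign σ = 1 ∧
          ∃ τ : Equiv.Perm (Fin 4), τ * σ = σ * τ ∧ τ * τ = 1 ∧ Equiv.Perm.sign τ = 1 ∧ τ ≠ 1 ∧ τ ≠ σ) := by
    decide +kernel
  obtain ⟨h, h8⟩ := key σ hσ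
  refine ⟨?_, h8⟩
  have h2 : σ * σ = 1 → orderOf σ = 2 := fun e => orderOf_eq_prime (by rw [pow_two, e]) hσ
  rcases h with ⟨c, e⟩ | ⟨c, e⟩ | ⟨c, e, e'⟩ | ⟨c, e⟩
  · simp [c, h2 e]
  · have : Fact (Nat.Prime 3) := ⟨Nat.prime_three⟩
    simp [c, orderOf_eq_prime (show σ ^ 3 = 1 by rw [pow_succ, pow_two, e]) hσ]
  · have h4 : orderOf σ = 4 := by
      have : Fact (Nat.Prime 2) := ⟨Nat.prime_two⟩
      exact orderOf_eq_prime_pow (p := 2) (n := 1) (by simpa [pow_two] using e)
        (by rw [show (2 : ℕ) ^ (1 + 1) = 2 + 2 by norm_num, pow_add, pow_two, e'])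
    simp [c, h4]
  · simp [c, h2 e]

theorem sub_orders (j : ℕ) (hj : j < 9) : ∀ p ∈ ([(4, 2), (3, 3), (4, 4), (8, 2)] : List (ℕ × ℕ)),
    p.2 ∣ j → j ∣ p.1 → j ≠ 8 → j ≠ 0 → 2 * j = 4 ∨ 2 * j = 6 ∨ 2 * j = 8 := by
  revert hj; revert j
  decide +kernel

theorem hom_of_card_four {A : Type u} [Group A] [Finite A] (h : Nat.card A = 4) :
    ∀ x y : A, x * y = y * x := by
  have : Fact (Nat.Prime 2) := ⟨Nat.prime_two⟩
  exact (IsPGroup.commGroupOfCardEqPrimeSq (p := 2) (by rw [h]; norm_num)).mul_comm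

variable {H : Type u} [Group H] [Finite H] {z : H}

set_option maxHeartbeats 800000 in
/-- The centraliser hypotheses of `GL(2,3)`. -/
theorem hyp_of (hcard : Nat.card H = 48) (hzc : ∀ x, z * x = x * z) (hz2 : z * z = 1) (hz1 : z ≠ 1)
    (h3 : ∀ x : H, orderOf x = 3 → Nat.card (centralizer ({x} : Set H)) ∈ ([6, 12] : List ℕ))
    (hinv : Nat.card {h : H // h * h = 1} ∈ ([9, 10, 14, 18] : List ℕ)) :
    Cfsg.Lib.CommGraphLThree.Hyp H z ∧ ∃ w : H, w * w = 1 ∧ w ≠ 1 ∧ w ≠ z := by
  classical
  have : Fact (Nat.Prime 3) := ⟨Nat.prime_three⟩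
  have : Fact (Nat.Prime 2) := ⟨Nat.prime_two⟩
  have := Fintype.ofFinite H
  simp only [List.mem_cons, List.not_mem_nil, or_false] at h3 hinv
  have hPc : ∀ P : Sylow 3 H, Nat.card (P : Subgroup H) = 3 := fun P => by
    rw [Sylow.card_eq_multiplicity, hcard, show (48 : ℕ) = 2 ^ 4 * 3 by norm_num,
      Nat.factorization_mul (by norm_num) (by norm_num), Nat.factorization_pow]
    simp [Nat.Prime.factorization Nat.prime_two, Nat.Prime.factorization Nat.prime_three]
  have hzo : orderOf z = 2 := orderOf_eq_prime (by rw [pow_two, hz2]) hz1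
  have hz3 : ¬ 3 ∣ orderOf z := by rw [hzo]; norm_num
  obtain ⟨P⟩ : Nonempty (Sylow 3 H) := inferInstance
  obtain ⟨x, hx⟩ := exists_prime_orderOf_dvd_card' (G := (P : Subgroup H)) 3 (by rw [hPc])
  have hxo : orderOf (x : H) = 3 := (orderOf_coe x).trans hx
  have hPz : (P : Subgroup H) = zpowers (x : H) := (eq_of_le_of_card_ge (zpowers_le.2 x.2)
    (by rw [hPc, Nat.card_zpowers, hxo])).symm
  -- four Sylow subgroups
  have hn4 : Nat.card (Sylow 3 H) = 4 := by
    have h1 : Nat.card (Sylow 3 H) % 3 = 1 % 3 := card_sylow_modEq_one 3 H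
    have h2 := P.card_eq_index_normalizer
    have hle : centralizer ({(x : H)} : Set H) ≤ normalizer ((P : Subgroup H) : Set H) := by
      rw [show normalizer ((P : Subgroup H) : Set H) = normalizer (zpowers (x : H) : Set H) from
        congrArg (fun S : Subgroup H => normalizer (S : Set H)) hPz, zpowers_eq_closure,
        ← centralizer_closure]
      exact Subgroup.centralizer_le_normalizer _
    have h4 := (normalizer ((P : Subgroup H) : Set H)).index_mul_card
    rw [hcard, show (normalizer ((P : Subgroup H) : Set H)).index = Nat.card (Sylow 3 H) from h2.symm] at h4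
    have h6 : 6 ∣ Nat.card (normalizer ((P : Subgroup H) : Set H)) := by
      refine dvd_trans ?_ (card_dvd_of_le hle)
      rcases h3 _ hxo with e | e <;> rw [e] <;> norm_num
    have hne : Nat.card (Sylow 3 H) ≠ 1 := fun e => by
      have hn : (P : Subgroup H).Normal := by
        have : Subsingleton (Sylow 3 H) := (Nat.card_eq_one_iff_unique.1 e).1
        exact P.normal_of_subsingleton
      have hidx : (centralizer ((P : Subgroup H) : Set H)).index ∣ 2 := by
        have := (normalizer_eq_top_iff).2 hn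
        have h7 : (centralizer ((P : Subgroup H) : Set H)).index ∣ Nat.card (MulAut (P : Subgroup H)) := by
          have hk := normalizerMonoidHom_ker (P : Subgroup H)
          let e' : H →* MulAut (P : Subgroup H) :=
            (normalizerMonoidHom (P : Subgroup H)).comp (MonoidHom.codRestrict (MonoidHom.id H) _
              (fun a => by rw [this]; trivial))
          have hker : e'.ker = centralizer ((P : Subgroup H) : Set H) := by
            ext a
            rw [MonoidHom.mem_ker, MonoidHom.comp_apply, ← MonoidHom.mem_ker, hk, mem_subgroupOf]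
            rfl
          rw [← hker, index_ker]
          exact card_subgroup_dvd_card _
        have : IsCyclic (P : Subgroup H) := isCyclic_of_prime_card (hPc P)
        rwa [IsCyclic.card_mulAut, hPc, Nat.totient_prime Nat.prime_three] at h7
      have hc := (centralizer ({(x : H)} : Set H)).index_mul_card
      rw [hcard, ← centralizer_closure, ← zpowers_eq_closure, ← hPz] at hc
      have h8 := Nat.le_of_dvd (by norm_num) hidx
      have h9 := h3 _ hxo
      rw [← centralizer_closure, ← zpowers_eq_closure, ← hPz] at h9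
      rcases h9 with e | e <;> rw [e] at hc <;> omega
    obtain ⟨c, hc⟩ := h6
    rw [hc] at h4
    have h8 : Nat.card (Sylow 3 H) * c = 8 := by linarith
    have h9 : Nat.card (Sylow 3 H) ∈ Nat.divisors 8 := Nat.mem_divisors.2 ⟨Dvd.intro c h8, by norm_num⟩
    rw [show Nat.divisors 8 = {1, 2, 4, 8} by decide] at h9
    simp only [Finset.mem_insert, Finset.mem_singleton] at h9
    omega
  -- the action
  have := Fintype.ofFinite (Sylow 3 H)
  let e4 : Sylow 3 H ≃ Fin 4 := Fintype.equivFinOfCardEq (by rw [← Nat.card_eq_fintype_card, hn4])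
  let π : H →* Equiv.Perm (Fin 4) :=
    (Equiv.permCongrHom e4).toMonoidHom.comp (MulAction.toPermHom H (Sylow 3 H))
  set K := π.ker with hKdef
  have hKmem : ∀ k, k ∈ K ↔ ∀ Q : Sylow 3 H, k • Q = Q := fun k => by
    rw [hKdef, MonoidHom.mem_ker]
    constructor
    · intro h Q
      have h' : MulAction.toPermHom H (Sylow 3 H) k = 1 :=
        (Equiv.permCongrHom e4).injective (h.trans (map_one _).symm)
      exact Equiv.ext_iff.1 h' Q
    · intro h
      show Equiv.permCongrHom e4 (MulAction.toPermHom H (Sylow 3 H) k) = 1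
      rw [show MulAction.toPermHom H (Sylow 3 H) k = 1 from Equiv.ext h, map_one]
  have hzK : z ∈ K := (hKmem z).2 fun Q => Sylow.smul_eq_iff_mem_normalizer.2
    (mem_normalizer_iff.2 fun a => by
      rw [show z * a * z⁻¹ = a by rw [hzc a, mul_inv_cancel_right]])
  have hK3 : ¬ 3 ∣ Nat.card K := fun hd => by
    obtain ⟨y, hy⟩ := exists_prime_orderOf_dvd_card' 3 hd
    have hyo : orderOf (y : H) = 3 := (orderOf_coe y).trans hy
    have hall : ∀ Q : Sylow 3 H, (Q : Subgroup H) = zpowers (y : H) := fun Q => by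
      obtain ⟨R, hR⟩ := (IsPGroup.of_card (n := 1) (show Nat.card (zpowers (y : H)) = 3 ^ 1 by
        rw [Nat.card_zpowers, hyo, pow_one])).exists_le_sylow
      have hyR : (y : H) ∈ (R : Subgroup H) := hR (mem_zpowers _)
      have h1 : (y : H) ∈ (R : Subgroup H) ⊓ Q := by
        rw [← R.2.inf_normalizer_sylow Q]
        exact ⟨hyR, Sylow.smul_eq_iff_mem_normalizer.1 ((hKmem _).1 y.2 Q)⟩
      exact (eq_of_le_of_card_ge (zpowers_le.2 h1.2) (by rw [hPc, Nat.card_zpowers, hyo])).symm
    have : Subsingleton (Sylow 3 H) := ⟨fun A B => Sylow.ext ((hall A).trans (hall B).symm)⟩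
    rw [Nat.card_eq_one_iff_unique.2 ⟨this, inferInstance⟩] at hn4
    omega
  have hcomm : ∀ k ∈ K, ∀ y : H, orderOf y = 3 → k * y = y * k := by
    intro k hk y hy
    obtain ⟨R, hR⟩ := (IsPGroup.of_card (n := 1) (show Nat.card (zpowers y) = 3 ^ 1 by
      rw [Nat.card_zpowers, hy, pow_one])).exists_le_sylow
    have h1 : k * y * k⁻¹ * y⁻¹ ∈ (R : Subgroup H) :=
      mul_mem ((mem_normalizer_iff.1 (Sylow.smul_eq_iff_mem_normalizer.1 ((hKmem k).1 hk R)) y).1
        (hR (mem_zpowers y))) (inv_mem (hR (mem_zpowers y)))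
    have h2 : k * y * k⁻¹ * y⁻¹ ∈ K := by
      rw [show k * y * k⁻¹ * y⁻¹ = k * (y * k⁻¹ * y⁻¹) by group]
      exact mul_mem hk ((MonoidHom.normal_ker π).conj_mem _ (inv_mem hk) y)
    have h3' : k * y * k⁻¹ * y⁻¹ = 1 := by
      refine orderOf_eq_one_iff.1 (Nat.eq_one_of_dvd_coprimes
        ((Nat.prime_three.coprime_iff_not_dvd).2 hK3) ?_ (orderOf_dvd_natCard K h2))
      exact hPc R ▸ orderOf_dvd_natCard _ h1
    exact mul_inv_eq_iff_eq_mul.1 (mul_inv_eq_one.1 h3')
  -- the elements of order three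
  have hinj : ∀ y y' : H, y ^ 3 = 1 → y' ^ 3 = 1 → π y = π y' → y = y' := by
    intro y y' hy hy' h
    have hk : y⁻¹ * y' ∈ K := by rw [hKdef, MonoidHom.mem_ker, map_mul, map_inv, h, inv_mul_cancel]
    rcases eq_or_ne y 1 with rfl | hy1
    · rw [inv_one, one_mul] at hk
      by_contra hne
      exact hK3 (orderOf_eq_prime hy' (Ne.symm hne) ▸ orderOf_dvd_natCard K hk)
    have hc : Commute y (y⁻¹ * y') := (hcomm _ hk y (orderOf_eq_prime hy hy1)).symm
    have h1 : (y⁻¹ * y') ^ 3 = 1 := by
      have h2 := hc.mul_pow 3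
      rw [mul_inv_cancel_left, hy, hy', one_mul] at h2
      exact h2.symm
    by_contra hne
    exact hK3 (orderOf_eq_prime h1 (fun e => hne (inv_mul_eq_one.1 e)) ▸ orderOf_dvd_natCard K hk)
  set T : Finset H := Finset.univ.filter fun y => y ^ 3 = 1 with hT
  have hT9 : 9 ≤ T.card := by
    choose gen hgen using fun Q : Sylow 3 H =>
      exists_prime_orderOf_dvd_card' (G := (Q : Subgroup H)) 3 (by rw [hPc])
    have hgen' : ∀ Q, orderOf (gen Q : H) = 3 := fun Q => (orderOf_coe _).trans (hgen Q)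
    have hQ : ∀ Q : Sylow 3 H, (Q : Subgroup H) = zpowers (gen Q : H) := fun Q =>
      (eq_of_le_of_card_ge (zpowers_le.2 (gen Q).2) (by rw [hPc, Nat.card_zpowers, hgen'])).symm
    let f : Sylow 3 H × Bool → H := fun q => if q.2 then (gen q.1 : H) else (gen q.1 : H)⁻¹
    have hfo : ∀ q, orderOf (f q) = 3 := fun q => by
      rcases q with ⟨Q, _ | _⟩ <;> simp [f, hgen']
    have hz' : ∀ q, zpowers (f q) = (q.1 : Subgroup H) := fun q => by
      rcases q with ⟨Q, _ | _⟩ <;> simp [f, ← hQ]
    have hf : Function.Injective f := by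
      intro q r h
      have h1 : q.1 = r.1 := Sylow.ext (by rw [← hz', ← hz', h])
      obtain ⟨Q, i⟩ := q
      obtain ⟨R, j⟩ := r
      simp only at h1
      subst h1
      have hne : (gen Q : H) ≠ (gen Q : H)⁻¹ := fun e => by
        have := orderOf_dvd_of_pow_eq_one (x := (gen Q : H)) (n := 2)
          (by rw [pow_two]; nth_rw 2 [e]; exact mul_inv_cancel _)
        rw [hgen'] at this
        norm_num at this
      cases i <;> cases j <;> first | rfl | exact absurd h hne | exact absurd h.symm hne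
    have hsub : insert 1 (Finset.univ.image f) ⊆ T := by
      intro y hy
      rw [hT, Finset.mem_filter]
      refine ⟨Finset.mem_univ _, ?_⟩
      rcases Finset.mem_insert.1 hy with rfl | hy
      · simp
      · obtain ⟨q, -, rfl⟩ := Finset.mem_image.1 hy
        rw [← hfo q, pow_orderOf_eq_one]
    have h1 := Finset.card_le_card hsub
    rw [Finset.card_insert_of_notMem (by
      intro h
      obtain ⟨q, -, hq⟩ := Finset.mem_image.1 h
      have := hfo q
      rw [hq, orderOf_one] at this
      omega), Finset.card_image_of_injective _ hf, Finset.card_univ, Fintype.card_prod,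
      ← Nat.card_eq_fintype_card, hn4, Fintype.card_bool] at h1
    omega
  have hcubes : ∀ σ : Equiv.Perm (Fin 4), σ * σ * σ = 1 → ∃ y : H, y ^ 3 = 1 ∧ π y = σ := by
    intro σ hσ
    have hsub : T.image π ⊆ Finset.univ.filter fun τ : Equiv.Perm (Fin 4) => τ * τ * τ = 1 := by
      intro τ hτ
      obtain ⟨y, hy, rfl⟩ := Finset.mem_image.1 hτ
      rw [hT, Finset.mem_filter] at hy
      refine Finset.mem_filter.2 ⟨Finset.mem_univ _, ?_⟩
      rw [← map_mul, ← map_mul, ← pow_two, ← pow_succ, hy.2, map_one]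
    have heq := Finset.eq_of_subset_of_card_le hsub (by
      rw [card_cubes, Finset.card_image_of_injOn (fun y hy y' hy' h => by
        simp only [hT, Finset.coe_filter, Set.mem_setOf_eq] at hy hy'
        exact hinj y y' hy.2 hy'.2 h)]
      exact hT9)
    have hmem : σ ∈ T.image π := heq ▸ Finset.mem_filter.2 ⟨Finset.mem_univ _, hσ⟩
    obtain ⟨y, hy, rfl⟩ := Finset.mem_image.1 hmem
    exact ⟨y, (Finset.mem_filter.1 hy).2, rfl⟩
  have heven : ∀ σ : Equiv.Perm (Fin 4), Equiv.Perm.sign σ = 1 → σ ∈ π.range := by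
    intro σ hσ
    obtain ⟨a, b, ha, hb, rfl⟩ := even_generated σ hσ
    obtain ⟨y, -, rfl⟩ := hcubes a ha
    obtain ⟨y', -, rfl⟩ := hcubes b hb
    exact ⟨y * y', map_mul _ _ _⟩
  -- the kernel
  have hKH : Nat.card K * Nat.card π.range = 48 := by
    rw [← index_ker, ← hcard]
    exact K.card_mul_index
  have hRd : Nat.card π.range ∣ 24 := by
    have h := card_subgroup_dvd_card π.range
    rwa [Nat.card_eq_fintype_card (α := Equiv.Perm (Fin 4)), Fintype.card_perm, Fintype.card_fin] at h
  have hR12 : 12 ≤ Nat.card π.range := by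
    rw [← card_even, ← Nat.card_eq_finsetCard]
    exact Nat.card_le_card_of_injective
      (fun σ => (⟨σ.1, heven σ.1 (Finset.mem_filter.1 σ.2).2⟩ : π.range))
      fun σ τ h => Subtype.ext (congrArg (fun q : π.range => (q : Equiv.Perm (Fin 4))) h)
  have hKcard : (Nat.card K = 2 ∧ Nat.card π.range = 24) ∨ (Nat.card K = 4 ∧ Nat.card π.range = 12) := by
    have hle := Nat.le_of_dvd (by norm_num) hRd
    rcases (show Nat.card π.range = 12 ∨ Nat.card π.range = 24 by
      obtain ⟨c, hc⟩ := hRd
      rcases Nat.lt_or_ge c 2 with h | h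
      · interval_cases c <;> omega
      · have : c ≤ 2 := by nlinarith
        interval_cases c
        omega) with e | e <;> rw [e] at hKH
    · exact Or.inr ⟨by omega, e⟩
    · exact Or.inl ⟨by omega, e⟩
  have hKcomm : ∀ k ∈ K, ∀ k' ∈ K, k * k' = k' * k := by
    intro k hk k' hk'
    have : IsMulCommutative K := by
      rcases hKcard with ⟨e, -⟩ | ⟨e, -⟩
      · exact ⟨⟨(isCyclic_of_prime_card (p := 2) e).commGroup.mul_comm⟩⟩
      · exact ⟨⟨hom_of_card_four e⟩⟩
    exact congrArg Subtype.val (this.is_comm.comm ⟨k, hk⟩ ⟨k', hk'⟩)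
  have hKcent : ∀ k ∈ K, ∀ h : H, k * h = h * k := by
    intro k hk h
    rcases hKcard with ⟨e2, -⟩ | ⟨-, e12⟩
    · rcases eq_or_ne k 1 with rfl | hk1
      · simp
      have hkz : k = z := by
        by_contra hne
        have h1 : ({1, z, k} : Finset H).card ≤ Nat.card K := by
          rw [← Nat.card_eq_finsetCard]
          refine Nat.card_le_card_of_injective (fun q => (⟨q.1, ?_⟩ : K))
            fun q r h => Subtype.ext (congrArg Subtype.val h :)
          obtain ⟨q, hq⟩ := q
          simp only [Finset.mem_insert, Finset.mem_singleton] at hq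
          rcases hq with rfl | rfl | rfl
          exacts [one_mem _, hzK, hk]
        rw [Finset.card_insert_of_notMem (by simp [Ne.symm hz1, Ne.symm hk1]),
          Finset.card_pair (Ne.symm hne), e2] at h1
        omega
      rw [hkz]
      exact hzc h
    · have hev : Equiv.Perm.sign (π h) = 1 := by
        by_contra hodd
        have h1 : insert (π h) (Finset.univ.filter fun σ : Equiv.Perm (Fin 4) => Equiv.Perm.sign σ = 1) ⊆
            (Finset.univ.filter fun σ => σ ∈ π.range) := fun σ hσ => by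
          refine Finset.mem_filter.2 ⟨Finset.mem_univ _, ?_⟩
          rcases Finset.mem_insert.1 hσ with rfl | hσ
          · exact ⟨h, rfl⟩
          · exact heven σ (Finset.mem_filter.1 hσ).2
        have h2 := Finset.card_le_card h1
        rw [Finset.card_insert_of_notMem (by simp [hodd]), card_even] at h2
        rw [Nat.card_eq_fintype_card, Fintype.card_subtype] at e12
        omega
      obtain ⟨a, b, ha, hb, hab⟩ := even_generated _ hev
      obtain ⟨y, hy, rfl⟩ := hcubes a ha
      obtain ⟨y', hy', rfl⟩ := hcubes b hb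
      have hcy : ∀ y : H, y ^ 3 = 1 → k * y = y * k := fun y hy => by
        rcases eq_or_ne y 1 with rfl | hy1
        · simp
        · exact hcomm k hk y (orderOf_eq_prime hy hy1)
      obtain ⟨k', hk', rfl⟩ : ∃ k' ∈ K, h = y * y' * k' :=
        ⟨(y * y')⁻¹ * h, by rw [hKdef, MonoidHom.mem_ker, map_mul, map_inv, hab, map_mul,
          inv_mul_cancel], by group⟩
      exact ((Commute.mul_right (hcy y hy) (hcy y' hy')).mul_right (hKcomm k hk k' hk')).eq
  -- involutory lifts
  let fib : Equiv.Perm (Fin 4) → ℕ := fun σ => (Finset.univ.filter fun h : H => h * h = 1 ∧ π h = σ).card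
  have hconj : ∀ h : H, ∀ σ, fib σ = fib (π h * σ * (π h)⁻¹) := fun h σ => by
    refine Finset.card_bij' (fun g _ => h * g * h⁻¹) (fun g _ => h⁻¹ * g * h) ?_ ?_
      (fun g _ => by group) (fun g _ => by group)
    · intro g hg
      simp only [Finset.mem_filter, Finset.mem_univ, true_and] at hg ⊢
      exact ⟨by rw [show h * g * h⁻¹ * (h * g * h⁻¹) = h * (g * g) * h⁻¹ by group, hg.1]; group,
        by rw [map_mul, map_mul, map_inv, hg.2]⟩
    · intro g hg
      simp only [Finset.mem_filter, Finset.mem_univ, true_and] at hg ⊢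
      exact ⟨by rw [show h⁻¹ * g * h * (h⁻¹ * g * h) = h⁻¹ * (g * g) * h by group, hg.1]; group,
        by rw [map_mul, map_mul, map_inv, hg.2]; group⟩
  have hfib : ∀ σ, fib σ = 0 ∨ fib σ = fib 1 := fun σ => by
    rcases Nat.eq_zero_or_pos (fib σ) with h0 | hpos
    · exact Or.inl h0
    obtain ⟨g0, hg0⟩ := Finset.card_pos.1 hpos
    simp only [Finset.mem_filter, Finset.mem_univ, true_and] at hg0
    refine Or.inr (Finset.card_bij' (fun g _ => g0 * g) (fun g _ => g0 * g) ?_ ?_ ?_ ?_).symm.symm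
    · intro g hg
      simp only [Finset.mem_filter, Finset.mem_univ, true_and] at hg ⊢
      have hk : g0 * g ∈ K := by
        rw [hKdef, MonoidHom.mem_ker, map_mul, hg0.2, hg.2, ← hg.2, ← map_mul, hg.1, map_one]
      refine ⟨?_, hk⟩
      rw [← mul_assoc, hKcent _ hk g0, ← mul_assoc g0 g0, hg0.1, one_mul, hg.1]
    · intro g hg
      simp only [Finset.mem_filter, Finset.mem_univ, true_and] at hg ⊢
      have hk : g ∈ K := hg.2
      refine ⟨?_, by rw [map_mul, hg0.2, hg.2, mul_one]⟩
      rw [show g0 * g * (g0 * g) = g0 * (g * g0) * g by group, hKcent g hk g0, ← mul_assoc, hg0.1,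
        one_mul, hg.1]
    · intro g _
      rw [← mul_assoc, hg0.1, one_mul]
    · intro g _
      rw [← mul_assoc, hg0.1, one_mul]
  have he : fib 1 = 2 ∧ Nat.card K = 2 ∨ (fib 1 = 2 ∨ fib 1 = 4) ∧ Nat.card K = 4 := by
    have hle : fib 1 ≤ Nat.card K := by
      simp only [fib]
      rw [← Nat.card_eq_finsetCard]
      exact Nat.card_le_card_of_injective
        (fun q => (⟨q.1, (Finset.mem_filter.1 q.2).2.2⟩ : K))
        fun q r h => Subtype.ext (congrArg (fun a : K => (a : H)) h)
    have h2 : 2 ≤ fib 1 := by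
      calc 2 = ({1, z} : Finset H).card := (Finset.card_pair (Ne.symm hz1)).symm
        _ ≤ _ := Finset.card_le_card fun q hq => by
          simp only [Finset.mem_insert, Finset.mem_singleton] at hq
          refine Finset.mem_filter.2 ⟨Finset.mem_univ _, ?_⟩
          rcases hq with rfl | rfl
          · simp
          · exact ⟨hz2, hzK⟩
    rcases hKcard with ⟨e, -⟩ | ⟨e, -⟩ <;> rw [e] at hle ⊢
    · exact Or.inl ⟨by omega, rfl⟩
    · refine Or.inr ⟨?_, rfl⟩
      have h3' : fib 1 ≠ 3 := fun e3 => by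
        let A : Subgroup K :=
          { carrier := {q | q * q = 1}
            one_mem' := one_mul 1
            mul_mem' := fun {a b} (ha : a * a = 1) (hb : b * b = 1) => by
              show a * b * (a * b) = 1
              rw [show b = b from rfl, show a * b * (a * b) = a * (b * a) * b by group,
                Subtype.ext (show ((b * a : K) : H) = ((a * b : K) : H) from hKcomm _ b.2 _ a.2),
                ← mul_assoc, ha, one_mul, hb]
            inv_mem' := fun {a} (ha : a * a = 1) => by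
              show a⁻¹ * a⁻¹ = 1
              rw [← mul_inv_rev, ha, inv_one] }
        have hA : Nat.card A = fib 1 := by
          simp only [fib]
          rw [← Nat.card_eq_finsetCard]
          exact Nat.card_congr
            { toFun := fun q => ⟨((q : K) : H), Finset.mem_filter.2
                ⟨Finset.mem_univ _, (congrArg Subtype.val q.2 :), (q : K).2⟩⟩
              invFun := fun g => ⟨⟨g.1, (Finset.mem_filter.1 g.2).2.2⟩,
                Subtype.ext (Finset.mem_filter.1 g.2).2.1⟩
              left_inv := fun q => rfl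
              right_inv := fun g => rfl }
        have := card_subgroup_dvd_card A
        rw [hA, e3, e] at this
        norm_num at this
      omega
  set a := fib (Equiv.swap 0 1 * Equiv.swap 2 3) with ha
  set b := fib (Equiv.swap 0 1) with hb
  have hK24 : ∀ c : Equiv.Perm (Fin 4), Nat.card π.range = 24 → c ∈ π.range := fun c h => by
    rw [eq_top_of_card_eq π.range (by
      rw [h, Nat.card_eq_fintype_card (α := Equiv.Perm (Fin 4)), Fintype.card_perm, Fintype.card_fin]; rfl)]
    trivial
  have hodd : Nat.card π.range = 12 → ∀ σ, Equiv.Perm.sign σ = -1 → fib σ = 0 := fun h12 σ hσ => by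
    by_contra hne
    obtain ⟨g, hg⟩ := Finset.card_pos.1 (Nat.pos_of_ne_zero hne)
    have h1 : insert σ (Finset.univ.filter fun τ : Equiv.Perm (Fin 4) => Equiv.Perm.sign τ = 1) ⊆
        (Finset.univ.filter fun τ => τ ∈ π.range) := fun τ hτ => by
      refine Finset.mem_filter.2 ⟨Finset.mem_univ _, ?_⟩
      rcases Finset.mem_insert.1 hτ with rfl | hτ
      · exact ⟨g, (Finset.mem_filter.1 hg).2.2⟩
      · exact heven τ (Finset.mem_filter.1 hτ).2
    have h2 := Finset.card_le_card h1
    rw [Finset.card_insert_of_notMem (by simp [hσ]), card_even] at h2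
    rw [Nat.card_eq_fintype_card, Fintype.card_subtype] at h12
    omega
  have hprofile : ∀ σ, fib σ = profile (fib 1) a b σ := fun σ => by
    unfold profile
    split_ifs with h1 h2 hs
    · rw [h1]
    · obtain ⟨c, hc, rfl⟩ := (perm_classes σ h2 h1).1 hs
      obtain ⟨g, rfl⟩ := heven c hc
      exact (hconj g _).symm
    · have hs' : Equiv.Perm.sign σ = -1 := (sign_cases σ).resolve_left hs
      obtain ⟨c, rfl⟩ := (perm_classes σ h2 h1).2 hs'
      rcases hKcard with ⟨-, e24⟩ | ⟨-, e12⟩
      · obtain ⟨g, rfl⟩ := hK24 c e24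
        exact (hconj g _).symm
      · rw [hodd e12 _ hs', hb, hodd e12 _ (by decide +kernel)]
    · refine Finset.card_eq_zero.2 (Finset.filter_eq_empty_iff.2 fun g _ hg => h2 ?_)
      rw [← hg.2, ← map_mul, hg.1, map_one]
  have htotal : Nat.card {h : H // h * h = 1} = fib 1 + 3 * a + 6 * b := by
    rw [Nat.card_eq_fintype_card, Fintype.card_subtype,
      Finset.card_eq_sum_card_fiberwise (f := π) (t := Finset.univ) (fun _ _ => Finset.mem_univ _),
      Finset.sum_congr rfl (g := fun σ => profile (fib 1) a b σ) (fun σ _ => by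
        rw [← hprofile σ, Finset.filter_filter]),
      profile_sum _ (by rcases he with ⟨e, -⟩ | ⟨e | e, -⟩ <;> simp [e]) a
        (by rcases hfib (Equiv.swap 0 1 * Equiv.swap 2 3) with h | h <;> simp [ha, h]) b
        (by rcases hfib (Equiv.swap 0 1) with h | h <;> simp [hb, h])]
  rw [htotal] at hinv
  have hab : Nat.card K = 2 ∧ Nat.card π.range = 24 ∧ fib 1 = 2 ∧ a = 0 ∧ b = 2 := by
    have h1 := hfib (Equiv.swap 0 1 * Equiv.swap 2 3)
    have h2 := hfib (Equiv.swap 0 1)
    rw [← ha] at h1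
    rw [← hb] at h2
    have h4 : Nat.card π.range = 12 → b = 0 := fun e => hodd e _ (by decide +kernel)
    rcases hKcard with ⟨k, r⟩ | ⟨k, r⟩
    · have e2 : fib 1 = 2 := by rcases he with ⟨e, -⟩ | ⟨-, e⟩ <;> omega
      refine ⟨k, r, e2, ?_⟩
      omega
    · have := h4 r
      rcases he with ⟨-, e⟩ | ⟨e, -⟩ <;> omega
  obtain ⟨hK2, hR24, hf1, ha0, hb2⟩ := hab
  have hkz : ∀ k ∈ K, k = 1 ∨ k = z := by
    intro k hk
    by_contra hne
    push Not at hne
    have h1 : ({1, z, k} : Finset H).card ≤ Nat.card K := by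
      rw [← Nat.card_eq_finsetCard]
      refine Nat.card_le_card_of_injective (fun q => (⟨q.1, ?_⟩ : K))
        fun q r h => Subtype.ext (congrArg Subtype.val h :)
      obtain ⟨q, hq⟩ := q
      simp only [Finset.mem_insert, Finset.mem_singleton] at hq
      rcases hq with rfl | rfl | rfl
      exacts [one_mem _, hzK, hk]
    rw [Finset.card_insert_of_notMem (by simp [Ne.symm hz1, Ne.symm hne.1]),
      Finset.card_pair (Ne.symm hne.2), hK2] at h1
    omega
  have hnolift : ∀ σ : Equiv.Perm (Fin 4), σ * σ = 1 → Equiv.Perm.sign σ = 1 → σ ≠ 1 →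
      ∀ h : H, π h = σ → h * h = z := by
    intro σ hσ hs hσ1 h hh
    have hk : h * h ∈ K := by rw [hKdef, MonoidHom.mem_ker, map_mul, hh, hσ]
    refine (hkz _ hk).resolve_left fun e => ?_
    have h0 : fib σ = 0 := by rw [hprofile, profile, if_neg hσ1, if_pos hσ, if_pos hs, ha0]
    exact Finset.notMem_empty h
      (Finset.card_eq_zero.1 h0 ▸ Finset.mem_filter.2 ⟨Finset.mem_univ _, e, hh⟩)
  refine ⟨⟨hcard, hzc, hz2, hz1, fun h hh1 hhz => ?_⟩, ?_⟩
  · -- centralisers
    set C := centralizer ({h} : Set H) with hC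
    set J := C.map π with hJ
    have hσ1 : π h ≠ 1 := fun e => (hkz h e).elim hh1 hhz
    have hKC : K ≤ C := fun k hk => mem_centralizer_singleton_iff.2 (hKcent k hk h)
    have hcardC : Nat.card C = 2 * Nat.card J := by
      have hker : (π.comp C.subtype).ker = K.subgroupOf C := by
        ext q
        rw [MonoidHom.mem_ker, MonoidHom.comp_apply, mem_subgroupOf, hKdef, MonoidHom.mem_ker]
        rfl
      have hrange : (π.comp C.subtype).range = J := by
        rw [hJ, MonoidHom.range_eq_map, ← Subgroup.map_map, ← MonoidHom.range_eq_map,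
          Subgroup.range_subtype]
      rw [← (π.comp C.subtype).ker.card_mul_index, index_ker, hrange, hker,
        Nat.card_congr (subgroupOfEquivOfLe hKC).toEquiv, hK2]
    have hsJ : π h ∈ J := ⟨h, mem_centralizer_singleton_iff.2 rfl, rfl⟩
    have hJle : J ≤ centralizer ({π h} : Set (Equiv.Perm (Fin 4))) := by
      rintro _ ⟨q, hq, rfl⟩
      rw [mem_centralizer_singleton_iff, ← map_mul, mem_centralizer_singleton_iff.1 hq, map_mul]
    have hcs : Nat.card (centralizer ({π h} : Set (Equiv.Perm (Fin 4)))) =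
        (Finset.univ.filter fun τ : Equiv.Perm (Fin 4) => τ * π h = π h * τ).card := by
      rw [Nat.card_eq_fintype_card, Fintype.card_subtype]
      congr 1
      ext τ
      simp [mem_centralizer_singleton_iff]
    obtain ⟨hdat, h8⟩ := cent_data _ hσ1
    have hd1 : orderOf (π h) ∣ Nat.card J := orderOf_dvd_natCard J hsJ
    have hd2 := card_dvd_of_le hJle
    rw [hcs] at hd2
    have hne8 : Nat.card J ≠ 8 := fun e8 => by
      simp only [List.mem_cons, List.not_mem_nil, or_false, Prod.mk.injEq] at hdat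
      have hc8 : (Finset.univ.filter fun τ : Equiv.Perm (Fin 4) => τ * π h = π h * τ).card = 8 := by
        rcases hdat with ⟨c, -⟩ | ⟨c, -⟩ | ⟨c, -⟩ | ⟨c, -⟩ <;>
          first | exact c | (rw [e8, c] at hd2; norm_num at hd2)
      obtain ⟨hsq, hs, τ, hτc, hτ2, hτs, hτ1, hτσ⟩ := h8 hc8
      have hJeq := eq_of_le_of_card_ge hJle (by rw [hcs, hc8, e8])
      obtain ⟨g, hg, hgτ⟩ : τ ∈ J := hJeq ▸ mem_centralizer_singleton_iff.2 hτc
      have hz : h * h = z := hnolift _ hsq hs hσ1 h rfl
      have hz' : g * g = z := hnolift _ hτ2 hτs hτ1 g hgτ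
      have hgh : g * h = h * g := mem_centralizer_singleton_iff.1 hg
      have hne : π (g * h) ≠ 1 := by
        rw [map_mul, hgτ]
        intro e
        refine hτσ ?_
        rw [eq_inv_of_mul_eq_one_left e, inv_eq_of_mul_eq_one_left hsq]
      have hprod := hnolift (π (g * h))
        (by rw [map_mul, hgτ, show τ * π h * (τ * π h) = τ * (π h * τ) * π h by group, ← hτc,
          ← mul_assoc, hτ2, one_mul, hsq])
        (by rw [map_mul, map_mul, hgτ, hτs, hs, one_mul]) hne (g * h) rfl
      rw [show g * h * (g * h) = g * (h * g) * h by group, ← hgh, ← mul_assoc, hz', mul_assoc, hz,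
        hz2] at hprod
      exact hz1 hprod.symm
    simp only [List.mem_cons, List.not_mem_nil, or_false, Prod.mk.injEq] at hdat
    simp only [Finset.mem_insert, Finset.mem_singleton]
    rw [hcardC]
    have hpos : 0 < Nat.card J := Nat.card_pos
    rcases hdat with ⟨c, o⟩ | ⟨c, o⟩ | ⟨c, o⟩ | ⟨c, o⟩ <;> rw [c] at hd2 <;> rw [o] at hd1 <;>
      have hlt : Nat.card J < 9 := by have := Nat.le_of_dvd (by norm_num) hd2; omega
    · exact sub_orders _ hlt (4, 2) (by simp) hd1 hd2 hne8 hpos.ne'
    · exact sub_orders _ hlt (3, 3) (by simp) hd1 hd2 hne8 hpos.ne'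
    · exact sub_orders _ hlt (4, 4) (by simp) hd1 hd2 hne8 hpos.ne'
    · exact sub_orders _ hlt (8, 2) (by simp) hd1 hd2 hne8 hpos.ne'
  · have hpos : 0 < fib (Equiv.swap 0 1) := by rw [← hb, hb2]; norm_num
    obtain ⟨w, hw⟩ := Finset.card_pos.1 hpos
    simp only [Finset.mem_filter, Finset.mem_univ, true_and] at hw
    refine ⟨w, hw.1, fun e => ?_, fun e => ?_⟩
    · have h := hw.2
      rw [e, map_one] at h
      exact absurd h (by decide +kernel)
    · have h := hw.2
      rw [e, MonoidHom.mem_ker.1 hzK] at h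
      exact absurd h (by decide +kernel)

end Cfsg.Lib.Small.DegreeGraph.Order5616
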