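import Cfsg.Agent.Small.DegreeGraph.Order5616.Involution
import Cfsg.Agent.Small.DegreeGraph.Order5616.FortyEight
import Cfsg.Agent.Recognition.CommGraphLThree.Main
import Cfsg.Agent.Blocks.Eigen

/-!
# A simple group of order 5616 is `PSL(3,3)`
-/

set_option autoImplicit false
set_option linter.unusedSectionVars false

namespace Cfsg.Lib.Small.DegreeGraph.Order5616

open Cfsg.Lib.Chars Cfsg.Lib.Blocks Cfsg.Lib.Blocks.SmallOrder Cfsg.Lib.Blocks.SylowCount
  Cfsg.Lib.Blocks.DegreeEquation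
open scoped ComplexConjugate _root_.Classical

universe u

/-- A primitive cube root of unity. -/
noncomputable def om : ℂ := Complex.exp (2 * Real.pi * Complex.I / 3)

theorem om_prim : IsPrimitiveRoot om 3 := by
  have := Complex.isPrimitiveRoot_exp 3 (by norm_num)
  simpa [om] using this

theorem om_sq : om ^ 2 = -1 - om := by
  have h := om_prim.geom_sum_eq_zero (by norm_num)
  simp only [Finset.sum_range_succ, Finset.sum_range_zero, pow_zero, pow_one, zero_add] at h
  linear_combination h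

theorem conj_om : conj om = -1 - om := by
  have h3 := om_prim.pow_eq_one
  have hn : ‖om‖ = 1 := Complex.norm_eq_one_of_pow_eq_one h3 (by norm_num)
  have h1 : om * conj om = 1 := by
    rw [Complex.mul_conj', hn]; norm_num
  have h0 : om ≠ 0 := om_prim.ne_zero (by norm_num)
  refine mul_left_cancel₀ h0 ?_
  rw [h1, ← om_sq]
  linear_combination -h3

/-- Membership of the lattice `ℤ + ℤω`. -/
def InLat (x : ℂ) : Prop := ∃ A B : ℤ, x = A + B * om

theorem inLat_add {x y : ℂ} : InLat x → InLat y → InLat (x + y) := by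
  rintro ⟨A, B, rfl⟩ ⟨A', B', rfl⟩
  exact ⟨A + A', B + B', by push_cast; ring⟩

theorem inLat_of_pow_six {ζ : ℂ} (h : ζ ^ 6 = 1) : InLat ζ := by
  have h2 : (ζ ^ 2) ^ 3 = 1 := by rw [← pow_mul]; exact h
  obtain ⟨i, hi, e⟩ := om_prim.eq_pow_of_pow_eq_one h2
  have key : (ζ - om ^ (2 * i)) * (ζ + om ^ (2 * i)) = 0 := by
    have h4 : om ^ (2 * i) * om ^ (2 * i) = om ^ i := by
      rw [← pow_add, show 2 * i + 2 * i = 3 * i + i by ring, pow_add, pow_mul, om_prim.pow_eq_one, one_pow,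
        one_mul]
    linear_combination -e - h4
  have hz : ζ = om ^ (2 * i) ∨ ζ = -om ^ (2 * i) := by
    rcases mul_eq_zero.1 key with k | k
    · exact Or.inl (sub_eq_zero.1 k)
    · exact Or.inr (eq_neg_of_add_eq_zero_left k)
  have h4 : om ^ 4 = om := by rw [pow_succ, om_prim.pow_eq_one, one_mul]
  interval_cases i
  · rcases hz with rfl | rfl
    exacts [⟨1, 0, by norm_num⟩, ⟨-1, 0, by norm_num⟩]
  · rcases hz with rfl | rfl
    exacts [⟨-1, -1, by rw [mul_one, om_sq]; push_cast; ring⟩, ⟨1, 1, by rw [mul_one, om_sq]; push_cast; ring⟩]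
  · rcases hz with rfl | rfl
    exacts [⟨0, 1, by rw [show 2 * 2 = 4 from rfl, h4]; norm_num⟩,
      ⟨0, -1, by rw [show 2 * 2 = 4 from rfl, h4]; norm_num⟩]

theorem char_inLat {G : Type u} [Group G] [Finite G] {χ : G → ℂ} (hχ : IsCharacter G χ) {g : G}
    (hg : g ^ 6 = 1) : InLat (χ g) := by
  obtain ⟨d, hd⟩ := exists_weights hχ g
  have h1 := hd 1
  rw [pow_one] at h1
  rw [h1]
  refine Finset.sum_induction _ InLat (fun x y => inLat_add) ⟨0, 0, by norm_num⟩ fun ζ hζ => ?_
  rw [Polynomial.mem_nthRootsFinset (orderOf_pos g)] at hζ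
  obtain ⟨c, hc⟩ := orderOf_dvd_of_pow_eq_one hg
  obtain ⟨A, B, e⟩ := inLat_of_pow_six (ζ := ζ) (by rw [hc, pow_mul, hζ, one_pow])
  exact ⟨d ζ * A, d ζ * B, by rw [pow_one, e]; push_cast; ring⟩

/-- The norm form. -/
def nrm (A B : ℤ) : ℤ := A * A - A * B + B * B

theorem nrm_nonneg (A B : ℤ) : 0 ≤ nrm A B := by
  unfold nrm; nlinarith [mul_self_nonneg (A - B), mul_self_nonneg A, mul_self_nonneg B]

theorem lat_norm (A B : ℤ) : ((A : ℂ) + B * om) * conj ((A : ℂ) + B * om) = (nrm A B : ℂ) := by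
  have h2 := om_sq
  rw [map_add, map_mul, map_intCast, map_intCast, conj_om, nrm]
  push_cast
  linear_combination (-(B : ℂ) ^ 2) * h2

theorem lat_zero {A B : ℤ} (h : (A : ℂ) + B * om = 0) : A = 0 ∧ B = 0 := by
  have h1 := lat_norm A B
  rw [h, zero_mul] at h1
  have h2 : nrm A B = 0 := by exact_mod_cast h1.symm
  unfold nrm at h2
  have hA : A * A ≤ 0 := by nlinarith [mul_self_nonneg (A - B), mul_self_nonneg B]
  have hB : B * B ≤ 0 := by nlinarith [mul_self_nonneg (A - B), mul_self_nonneg A]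
  exact ⟨mul_self_eq_zero.1 (le_antisymm hA (mul_self_nonneg A)),
    mul_self_eq_zero.1 (le_antisymm hB (mul_self_nonneg B))⟩

theorem six_table : ∀ a : Fin 17, ∀ b : Fin 17, ∀ m : Fin 3,
    let A : ℤ := (a : ℕ) - 8
    let B : ℤ := (b : ℕ) - 8
    let n : ℤ := 24 * ((m : ℕ) - 1)
    nrm A B + nrm (n + 3 * A - 9) (3 * B) + 4 * nrm (n + 2 * A - 8) (2 * B) ≤ 47 →
      (2 * A - B - 8) % 3 = 0 → A = 4 ∧ B = 0 ∧ n = 0 := by
  unfold nrm
  decide +kernel

theorem six_values {A B n : ℤ} (hn : (24 : ℤ) ∣ n)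
    (hb : nrm A B + nrm (n + 3 * A - 9) (3 * B) + 4 * nrm (n + 2 * A - 8) (2 * B) ≤ 47)
    (h3 : (3 : ℤ) ∣ 2 * A - B - 8) : A = 4 ∧ B = 0 ∧ n = 0 := by
  obtain ⟨m, rfl⟩ := hn
  have hsq : ∀ A B : ℤ, 3 * (A * A) ≤ 4 * nrm A B ∧ 3 * (B * B) ≤ 4 * nrm A B := fun A B => by
    unfold nrm
    exact ⟨by nlinarith [mul_self_nonneg (A - 2 * B)], by nlinarith [mul_self_nonneg (B - 2 * A)]⟩
  have n1 := nrm_nonneg A B
  have n2 := nrm_nonneg (24 * m + 3 * A - 9) (3 * B)
  have n3 := nrm_nonneg (24 * m + 2 * A - 8) (2 * B)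
  obtain ⟨hA, hB⟩ := hsq A B
  have hZ := (hsq (24 * m + 3 * A - 9) (3 * B)).1
  have hA' : A ≤ 8 ∧ -8 ≤ A := ⟨by nlinarith, by nlinarith⟩
  have hB' : B ≤ 8 ∧ -8 ≤ B := ⟨by nlinarith, by nlinarith⟩
  have hm : m ≤ 1 ∧ -1 ≤ m := ⟨by nlinarith, by nlinarith⟩
  have := six_table ⟨(A + 8).toNat, by omega⟩ ⟨(B + 8).toNat, by omega⟩ ⟨(m + 1).toNat, by omega⟩
  simp only [show (((A + 8).toNat : ℕ) : ℤ) - 8 = A by omega,
    show (((B + 8).toNat : ℕ) : ℤ) - 8 = B by omega,
    show (((m + 1).toNat : ℕ) : ℤ) - 1 = m by omega] at this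
  exact this hb (Int.emod_eq_zero_of_dvd h3)

variable {G : Type u} [Group G] [Fintype G] [IsSimpleGroup G] [Fact (Nat.Prime 13)]

namespace Setup

variable {M : Ideal AlgInt} {C : Cyc G 13} {ν : (ZMod 13)ˣ → IrrCharacter G} {a b : IrrCharacter G}
  (S : Setup M C ν a b)
include S

/-- An element of order three commuting with an involution has a small common centraliser. -/
theorem not_dvd_common {t x : G} (ht : t * t = 1) (ht1 : t ≠ 1) (hx : orderOf x = 3) (hc : Commute t x) :
    ¬ 24 ∣ Nat.card (Subgroup.centralizer ({t * x} : Set G)) := by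
  intro h24
  have hx3 : x ^ 3 = 1 := hx ▸ pow_orderOf_eq_one x
  have ht2 : t ^ 2 = 1 := by rw [pow_two, ht]
  set g := t * x with hg
  have hg6 : g ^ 6 = 1 := by
    rw [hg, hc.mul_pow, show (6 : ℕ) = 2 * 3 from rfl, pow_mul, ht2, one_pow, mul_comm 2 3, pow_mul, hx3,
      one_pow, one_mul]
  have hg3 : g ^ 3 = t := by
    rw [hg, hc.mul_pow, hx3, mul_one, pow_succ, ht2, one_mul]
  have hregg : ¬ 13 ∣ orderOf g := S.regular_of_pow (n := 6) hg6 (by norm_num)
  have hregt : ¬ 13 ∣ orderOf t := S.regular_of_pow (n := 2) ht2 (by norm_num)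
  obtain ⟨a1, b1, c1, n1, hK⟩ := S.involution ht ht1
  -- the order of the centraliser
  have hle : Subgroup.centralizer ({g} : Set G) ≤ Subgroup.centralizer ({t} : Set G) := fun y hy => by
    rw [Subgroup.mem_centralizer_singleton_iff] at hy ⊢
    rw [← hg3]
    exact Commute.pow_right hy 3
  have hd48 : Nat.card (Subgroup.centralizer ({g} : Set G)) ∣ 48 := n1 ▸ Subgroup.card_dvd_of_le hle
  set c := Nat.card (Subgroup.centralizer ({g} : Set G)) with hcdef
  have hc48 : c ≤ 48 := Nat.le_of_dvd (by norm_num) hd48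
  -- the values
  obtain ⟨A, B, hA⟩ := char_inLat (isCharacter_of_irr a.2) hg6
  obtain ⟨A', B', hA'⟩ := char_inLat (isCharacter_of_irr b.2) hg6
  have hW : (ν 1 : G → ℂ) g = ((1 - A + A' : ℤ) : ℂ) + ((B' - B : ℤ) : ℂ) * om := by
    rw [S.exc_eq hregg, hA, hA']
    push_cast
    ring
  have h1 := S.count_regular hregt hregg
  rw [a1, b1, c1, hK, hA, hA'] at h1
  set N := Nat.card {w : G × G // IsConj t w.1 ∧ IsConj g w.2 ∧ w.1 * w.2 = C.y}
  set L := Nat.card {x : G // IsConj g x} with hL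
  have hLc : (L : ℂ) * (c : ℂ) = 5616 := by
    have := card_isConj_mul g
    rw [S.card] at this
    exact_mod_cast this
  have h2 : (N : ℂ) * (c : ℂ) = 13 * (((9 - 3 * A + A' : ℤ) : ℂ) + ((B' - 3 * B : ℤ) : ℂ) * om) := by
    push_cast at h1 ⊢
    linear_combination ((c : ℂ) / 5616) * h1 +
      ((117 : ℂ) / 5616 * (1 - 4 * ((A : ℂ) + B * om) / 12 + 3 * ((A' : ℂ) + B' * om) / 27)) * hLc
  have h3 : (((N * c : ℕ) : ℤ) - 13 * (9 - 3 * A + A')) = 0 ∧ -13 * (B' - 3 * B) = 0 := by
    apply lat_zero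
    push_cast at h2 ⊢
    linear_combination h2
  obtain ⟨h3a, h3b⟩ := h3
  set n := 9 - 3 * A + A' with hn
  have hn24 : (24 : ℤ) ∣ n := by
    have : (24 : ℤ) ∣ 13 * n := by
      rw [show 13 * n = ((N * c : ℕ) : ℤ) by linarith]
      exact_mod_cast dvd_mul_of_dvd_right h24 N
    exact (Int.isCoprime_iff_gcd_eq_one.2 (by norm_num)).dvd_of_dvd_mul_left this
  have eB' : B' = 3 * B := by omega
  subst eB'
  have eA' : A' = n + 3 * A - 9 := by omega
  -- the bound
  have ho := S.three.orth_regular hregg hregg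
  rw [if_pos (IsConj.refl g), ← hcdef, S.card_exc, hA, hA', hW, lat_norm, lat_norm, lat_norm] at ho
  have hrest : ∃ R : ℝ, 0 ≤ R ∧ (R : ℂ) = ∑ η ∈ S.three.rest, (η : G → ℂ) g * conj ((η : G → ℂ) g) := by
    refine ⟨∑ η ∈ S.three.rest, Complex.normSq ((η : G → ℂ) g),
      Finset.sum_nonneg fun η _ => Complex.normSq_nonneg _, ?_⟩
    rw [Complex.ofReal_sum]
    exact Finset.sum_congr rfl fun η _ => (Complex.mul_conj _).symm
  obtain ⟨R, hR0, hR⟩ := hrest
  rw [← hR] at ho
  have hre : (c : ℝ) = 1 + (nrm A B : ℝ) + (nrm A' (3 * B) : ℝ) +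
      4 * (nrm (1 - A + A') (3 * B - B) : ℝ) + R := by
    have := congrArg Complex.re ho
    simpa using this
  have hb : nrm A B + nrm (n + 3 * A - 9) (3 * B) + 4 * nrm (n + 2 * A - 8) (2 * B) ≤ 47 := by
    rw [← eA', show n + 2 * A - 8 = 1 - A + A' by omega, show 2 * B = 3 * B - B by ring]
    have : ((1 + nrm A B + nrm A' (3 * B) + 4 * nrm (1 - A + A') (3 * B - B) : ℤ) : ℝ) ≤ ((48 : ℤ) : ℝ) := by
      have : (c : ℝ) ≤ 48 := by exact_mod_cast hc48
      push_cast
      linarith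
    have := Int.cast_le.1 this
    omega
  -- the congruence
  obtain ⟨M3, hM3⟩ := exists_isPModular Nat.prime_three
  have : Fact (Nat.Prime 3) := ⟨Nat.prime_three⟩
  have hot : ¬ 3 ∣ orderOf t := by
    rw [orderOf_eq_prime (p := 2) ht2 ht1]; norm_num
  have s1 := small_apply_mul_sub hM3 (isCharacter_of_irr a.2) hc.symm ⟨1, by rw [hx, pow_one]⟩ hot
  have s2 := small_apply_mul_sub hM3 (isCharacter_of_irr a.2) (hc.symm.inv_left)
    ⟨1, by rw [orderOf_inv, hx, pow_one]⟩ hot
  rw [hc.eq.symm, ← hg] at s1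
  rw [show x⁻¹ * t = g⁻¹ by rw [hg, mul_inv_rev, inv_eq_of_mul_eq_one_left ht],
    IsCharacter.conj_inv (isCharacter_of_irr a.2)] at s2
  have s3 := s1.add s2
  rw [hA, a1, map_add, map_mul, map_intCast, map_intCast, conj_om] at s3
  have h3d : (3 : ℤ) ∣ 2 * A - B - 8 := by
    refine (small_intCast_iff hM3 _).1 ?_
    convert s3 using 1
    push_cast
    ring
  obtain ⟨eA, eB, en⟩ := six_values hn24 hb h3d
  subst eA eB
  rw [show A' = 3 by omega] at hA' hW hre
  -- orthogonality with the involution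
  have hne : ¬ IsConj t g := fun hcj => by
    obtain ⟨d, hd⟩ := isConj_iff.1 hcj
    have h2 : g ^ 2 = 1 := by
      rw [← hd, conj_pow, ht2, mul_one, mul_inv_cancel]
    rw [hg, hc.mul_pow, ht2, one_mul] at h2
    have := orderOf_dvd_of_pow_eq_one h2
    rw [hx] at this
    norm_num at this
  have hor := S.three.orth_regular hregt hregg
  rw [if_neg hne, a1, b1, c1, hA, hA'] at hor
  simp only [Int.cast_ofNat, Int.cast_zero, zero_mul, add_zero, mul_zero, map_ofNat] at hor
  have h26 : ∑ η ∈ S.three.rest, (η : G → ℂ) t * conj ((η : G → ℂ) g) = -26 := by linear_combination -hor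
  have hlow : (-26 : ℝ) ≥ -(22 + R) / 2 := by
    have hre' := congrArg Complex.re h26
    rw [Complex.re_sum] at hre'
    have hterm : ∀ η ∈ S.three.rest, -(Complex.normSq ((η : G → ℂ) t) + Complex.normSq ((η : G → ℂ) g)) / 2 ≤
        ((η : G → ℂ) t * conj ((η : G → ℂ) g)).re := fun η _ => by
      simp only [Complex.normSq_apply, Complex.mul_re, Complex.conj_re, Complex.conj_im]
      nlinarith [mul_self_nonneg (((η : G → ℂ) t).re + ((η : G → ℂ) g).re),
        mul_self_nonneg (((η : G → ℂ) t).im + ((η : G → ℂ) g).im)]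
    have hsum := Finset.sum_le_sum hterm
    rw [← Finset.sum_div, Finset.sum_neg_distrib, Finset.sum_add_distrib, hre'] at hsum
    have ht22 : ∑ η ∈ S.three.rest, Complex.normSq ((η : G → ℂ) t) = 22 := by
      have e := S.three.orth_regular hregt hregt
      rw [if_pos (IsConj.refl t), n1, a1, b1, c1, S.card_exc] at e
      simp only [Complex.mul_conj, map_ofNat, map_zero, mul_zero, zero_mul] at e
      rw [← Complex.ofReal_sum] at e
      have := congrArg Complex.re e
      simp at this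
      linarith
    have hgR : ∑ η ∈ S.three.rest, Complex.normSq ((η : G → ℂ) g) = R := by
      apply Complex.ofReal_injective
      rw [hR, Complex.ofReal_sum]
      exact Finset.sum_congr rfl fun η _ => (Complex.mul_conj _).symm
    rw [ht22, hgR] at hsum
    simp at hsum ⊢
    linarith
  have : (c : ℝ) ≤ 48 := by exact_mod_cast hc48
  norm_num [nrm] at hre
  linarith

/-- The centraliser of an involution is `GL(2,3)`. -/
theorem centralizer_equiv {t : G} (ht : t * t = 1) (ht1 : t ≠ 1) :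
    Nonempty (↥(Subgroup.centralizer ({t} : Set G)) ≃* Matrix.GeneralLinearGroup (Fin 2) (ZMod 3)) := by
  obtain ⟨-, -, -, n1, -⟩ := S.involution ht ht1
  set H := Subgroup.centralizer ({t} : Set G) with hH
  let z : H := ⟨t, Subgroup.mem_centralizer_singleton_iff.2 rfl⟩
  have hzc : ∀ x : H, z * x = x * z := fun x =>
    Subtype.ext (Subgroup.mem_centralizer_singleton_iff.1 x.2).symm
  have hz2 : z * z = 1 := Subtype.ext ht
  have hz1 : z ≠ 1 := fun e => ht1 (congrArg Subtype.val e)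
  have hinv : Nat.card {h : H // h * h = 1} ∈ ([9, 10, 14, 18] : List ℕ) := by
    rw [Nat.card_congr (β := {u : G // u * u = 1 ∧ u * t = t * u})
      { toFun := fun h => ⟨(h.1 : G), congrArg Subtype.val h.2, Subgroup.mem_centralizer_singleton_iff.1 h.1.2⟩
        invFun := fun u => ⟨⟨u.1, Subgroup.mem_centralizer_singleton_iff.2 u.2.2⟩, Subtype.ext u.2.1⟩
        left_inv := fun h => rfl
        right_inv := fun u => rfl }]
    exact S.card_invol_centralizer ht ht1
  have h3 : ∀ x : H, orderOf x = 3 →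
      Nat.card (Subgroup.centralizer ({x} : Set H)) ∈ ([6, 12] : List ℕ) := by
    intro x hx
    have hxo : orderOf (x : G) = 3 := (Subgroup.orderOf_coe x).trans hx
    have hc : Commute t (x : G) := (Subgroup.mem_centralizer_singleton_iff.1 x.2).symm
    have hnd := S.not_dvd_common ht ht1 hxo hc
    have hx3 : (x : G) ^ 3 = 1 := hxo ▸ pow_orderOf_eq_one _
    have hmem : ∀ u : G, u ∈ Subgroup.centralizer ({t * (x : G)} : Set G) ↔
        u * t = t * u ∧ u * (x : G) = (x : G) * u := by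
      intro u
      rw [Subgroup.mem_centralizer_singleton_iff]
      constructor
      · intro h
        have h' : Commute u (t * (x : G)) := h
        have h4 := h'.pow_right 4
        have h3' := h'.pow_right 3
        rw [hc.mul_pow, hx3, mul_one, pow_succ, pow_two, ht, one_mul] at h3'
        rw [hc.mul_pow, show (4 : ℕ) = 3 + 1 from rfl, pow_succ (x : G), hx3, one_mul,
          show (3 + 1 : ℕ) = 2 * 2 from rfl, pow_mul, pow_two t, ht, one_pow, one_mul] at h4
        exact ⟨h3', h4⟩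
      · rintro ⟨h1, h2⟩
        rw [← mul_assoc, h1, mul_assoc, h2, mul_assoc]
    rw [← Nat.card_congr (α := Subgroup.centralizer ({t * (x : G)} : Set G))
      (β := Subgroup.centralizer ({x} : Set H))
      { toFun := fun u => ⟨⟨u.1, Subgroup.mem_centralizer_singleton_iff.2 ((hmem u.1).1 u.2).1⟩,
          Subgroup.mem_centralizer_singleton_iff.2 (Subtype.ext ((hmem u.1).1 u.2).2)⟩
        invFun := fun h => ⟨((h : H) : G), (hmem _).2 ⟨Subgroup.mem_centralizer_singleton_iff.1 h.1.2,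
          congrArg Subtype.val (Subgroup.mem_centralizer_singleton_iff.1 h.2)⟩⟩
        left_inv := fun u => rfl
        right_inv := fun h => rfl }]
    have hd : Nat.card (Subgroup.centralizer ({t * (x : G)} : Set G)) ∣ 48 :=
      n1 ▸ Subgroup.card_dvd_of_le fun u hu =>
        Subgroup.mem_centralizer_singleton_iff.2 ((hmem u).1 hu).1
    have h2 : 2 ∣ Nat.card (Subgroup.centralizer ({t * (x : G)} : Set G)) := by
      rw [← orderOf_eq_prime (p := 2) (by rw [pow_two, ht]) ht1]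
      exact Subgroup.orderOf_dvd_natCard _ ((hmem t).2 ⟨rfl, hc.eq⟩)
    have h3' : 3 ∣ Nat.card (Subgroup.centralizer ({t * (x : G)} : Set G)) :=
      hxo ▸ Subgroup.orderOf_dvd_natCard _ ((hmem _).2 ⟨hc.eq.symm, rfl⟩)
    have hle := Nat.le_of_dvd (by norm_num) hd
    simp only [List.mem_cons, List.not_mem_nil, or_false]
    generalize Nat.card (Subgroup.centralizer ({t * (x : G)} : Set G)) = c at hd h2 h3' hnd hle
    interval_cases c <;> omega
  obtain ⟨hyp, w, hw, hw1, hwz⟩ := hyp_of n1 hzc hz2 hz1 h3 hinv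
  obtain ⟨e48⟩ := hyp.exists_equiv hw hw1 hwz
  obtain ⟨eGL⟩ := Cfsg.Lib.GLTwoThree.exists_iso
  exact ⟨e48.symm.trans eGL⟩

end Setup

/-- A simple group of order 5616 is isomorphic to `PSL(3,3)`. -/
theorem equiv_psl {H : Type u} [Group H] [Finite H] [IsSimpleGroup H] (hH : Nat.card H = 5616) :
    Nonempty (H ≃* Matrix.ProjectiveSpecialLinearGroup (Fin 3) (ZMod 3)) := by
  have : Fact (Nat.Prime 13) := ⟨by norm_num⟩
  have : Fact (Nat.Prime 2) := ⟨Nat.prime_two⟩
  have := Fintype.ofFinite H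
  obtain ⟨M, C, ν, a, b, S⟩ := exists_setup (G := H) hH
  obtain ⟨t, ht⟩ := exists_prime_orderOf_dvd_card' (G := H) 2 (by rw [hH]; norm_num)
  have htt : t * t = 1 := by rw [← pow_two, ← ht, pow_orderOf_eq_one]
  have ht1 : t ≠ 1 := fun e => by rw [e, orderOf_one] at ht; omega
  have hperf : _root_.commutator H = ⊤ := BrauerTuan.perfect_of_simple
    (Cfsg.Lib.Small.DegreeGraph.not_isCyclic_of_not_comm S.hnc)
  obtain ⟨D, -⟩ := Cfsg.Lib.GLTwoThree.exists_setup (fun r _ => hperf ▸ Subgroup.mem_top r) t ht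
    (S.centralizer_equiv htt ht1)
  exact Cfsg.Lib.LThreeThree.equiv_PSL ⟨D, hH, inferInstance⟩

end Cfsg.Lib.Small.DegreeGraph.Order5616
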