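import Cfsg.Agent.Small.DegreeGraph.Order5616.Block

/-!
# Involutions in a simple group of order 5616
-/

set_option autoImplicit false
set_option linter.unusedSectionVars false

namespace Cfsg.Lib.Small.DegreeGraph.Order5616

open Cfsg.Lib.Chars Cfsg.Lib.Blocks Cfsg.Lib.Blocks.SmallOrder Cfsg.Lib.Blocks.SylowCount
  Cfsg.Lib.Blocks.DegreeEquation
open scoped ComplexConjugate _root_.Classical

universe u

theorem value_table : ∀ x : Fin 25, ∀ w : Fin 33,
    let X : ℤ := (x : ℕ) - 12
    let W : ℤ := (w : ℕ) - 16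
    let Z : ℤ := W + X - 1
    X % 4 = 0 → Z % 4 = 3 → 432 - 36 * (X * X) + 16 * (Z * Z) - 27 * (W * W) = 0 →
      1 + X * X + Z * Z + 4 * (W * W) ≤ 432 → (X = 4 ∧ Z = 3) ∨ (X = 0 ∧ Z = -9) := by
  decide +kernel

theorem values_of {X Z W : ℤ} (hX : X.natAbs ≤ 12) (hW : W.natAbs ≤ 16) (hrel : W = 1 - X + Z)
    (h4 : (4 : ℤ) ∣ 12 - X) (h4' : (4 : ℤ) ∣ 27 - Z)
    (heq : 432 - 36 * (X * X) + 16 * (Z * Z) - 27 * (W * W) = 0)
    (hb : 1 + X * X + Z * Z + 4 * (W * W) ≤ 432) : (X = 4 ∧ Z = 3) ∨ (X = 0 ∧ Z = -9) := by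
  have := value_table ⟨(X + 12).toNat, by omega⟩ ⟨(W + 16).toNat, by omega⟩
  simp only [show (((X + 12).toNat : ℕ) : ℤ) - 12 = X by omega,
    show (((W + 16).toNat : ℕ) : ℤ) - 16 = W by omega, show W + X - 1 = Z by omega] at this
  exact this (by omega) (by omega) heq hb

/-- The contributions of a character outside the block. -/
def step (k r : ℤ) : ℤ × ℤ × ℤ :=
  ((k - r) / 4 * ((k - r) / 4), k * ((k - r) / 4), 12 * ((k - r) / 4) ^ 3 / k)

/-- The possible contributions. -/
def steps : List (ℤ × ℤ × ℤ) :=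
  ([1, 2, 3, 4] : List ℤ).flatMap fun k =>
    ((List.range 9).filter fun i : ℕ => (k - ((i : ℤ) - 4)) % 4 == 0).map fun i : ℕ => step k ((i : ℤ) - 4)

/-- The possible sums. -/
def reach : ℕ → List (ℤ × ℤ × ℤ)
  | 0 => [(0, 0, 0)]
  | n + 1 => (reach n ++ ((reach n).flatMap fun s => steps.map fun q => q + s).filter
      fun s => decide (s.1 ≤ 4)).dedup

theorem reach_closed : ((reach 4).all fun s => steps.all fun q =>
    decide (4 < (q + s).1) || (reach 4).contains (q + s)) = true := by decide +kernel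

theorem reach_final : ((reach 4).all fun s =>
    !(decide (s.1 = 4 ∧ s.2.1 = 8)) || ([24, 28, 32, 33] : List ℤ).contains s.2.2) = true := by
  decide +kernel

theorem mem_reach : ∀ L : List (ℤ × ℤ × ℤ), (∀ q ∈ L, q ∈ steps ∧ 0 ≤ q.1) → L.sum.1 ≤ 4 →
    L.sum ∈ reach 4
  | [], _, _ => by decide +kernel
  | q :: L, hq, hle => by
    rw [List.sum_cons] at hle ⊢
    obtain ⟨hmem, h0⟩ := hq q List.mem_cons_self
    have h1 := mem_reach L (fun x hx => hq x (List.mem_cons_of_mem _ hx)) (by
      simp only [Prod.fst_add] at hle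
      omega)
    have h2 := reach_closed
    rw [List.all_eq_true] at h2
    have h3 := h2 _ h1
    rw [List.all_eq_true] at h3
    have h4 := h3 _ hmem
    rw [Bool.or_eq_true, decide_eq_true_eq, List.contains_iff_mem] at h4
    exact h4.resolve_left (by omega)

theorem mem_steps {k r : ℤ} (hk : 1 ≤ k) (hk4 : k ≤ 4) (hr : r.natAbs ≤ 4) (h : (4 : ℤ) ∣ k - r) :
    step k r ∈ steps := by
  refine List.mem_flatMap.2 ⟨k, by simp; omega, List.mem_map.2 ⟨(r + 4).toNat, ?_, ?_⟩⟩
  · rw [List.mem_filter, List.mem_range, beq_iff_eq]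
    exact ⟨by omega, Int.emod_eq_zero_of_dvd (by rwa [show (((r + 4).toNat : ℕ) : ℤ) - 4 = r by omega])⟩
  · rw [show (((r + 4).toNat : ℕ) : ℤ) - 4 = r by omega]

theorem step_identity {k r : ℤ} (hk : 1 ≤ k) (hk4 : k ≤ 4) (h : (4 : ℤ) ∣ k - r) :
    (r : ℂ) * r * r / ((13 * k : ℤ) : ℂ) =
      (((k * k - 12 * (step k r).2.1 + 48 * (step k r).1 : ℤ) : ℂ)) / 13 -
        16 * ((step k r).2.2 : ℂ) / 39 := by
  obtain ⟨j, hj⟩ := h
  have hr : r = k - 4 * j := by omega
  have hkd : k ∣ 12 := by interval_cases k <;> norm_num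
  obtain ⟨c, hc⟩ : k ∣ 12 * j ^ 3 := hkd.mul_right _
  have hs : step k r = (j * j, k * j, c) := by
    simp only [step, hj, Int.mul_ediv_cancel_left _ (show (4 : ℤ) ≠ 0 by norm_num), hc,
      Int.mul_ediv_cancel_left _ (show k ≠ 0 by omega)]
  rw [hs, hr]
  have hk0 : (k : ℂ) ≠ 0 := Int.cast_ne_zero.2 (by omega)
  have hc' : (12 : ℂ) * (j : ℂ) ^ 3 = (k : ℂ) * (c : ℂ) := by exact_mod_cast congrArg (Int.cast (R := ℂ)) hc
  push_cast
  field_simp
  linear_combination (-(16 : ℂ) * 13) * hc'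

variable {G : Type u} [Group G] [Fintype G] [IsSimpleGroup G] [Fact (Nat.Prime 13)]

namespace Setup

variable {M : Ideal AlgInt} {C : Cyc G 13} {ν : (ZMod 13)ˣ → IrrCharacter G} {a b : IrrCharacter G}
  (S : Setup M C ν a b)
include S

theorem not_inverted {u : G} (hu : u * u = 1) (h : u * C.y * u⁻¹ = C.y⁻¹) : False := by
  have hn : u⁻¹ ∈ Subgroup.normalizer (Subgroup.zpowers C.y : Set G) :=
    C.norm_of_mem (i := 1) (j := -1) one_ne_zero (by rw [inv_inv, C.yP_neg, C.yP_one, h])
  rw [inv_eq_of_mul_eq_one_left hu] at hn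
  have hd := Subgroup.orderOf_dvd_natCard _ hn
  rw [Cfsg.Lib.Blocks.HalfDegree.card_normalizer_eq, card_H C, S.three.index, S.three.trivial_V] at hd
  have h2 : orderOf u ∣ 2 := orderOf_dvd_of_pow_eq_one (by rw [pow_two, hu])
  have hu1 : u = 1 := orderOf_eq_one_iff.1
    (Nat.eq_one_of_dvd_coprimes (by norm_num : Nat.Coprime 2 (13 * (3 * 1))) h2 hd)
  subst hu1
  rw [one_mul, inv_one, mul_one] at h
  have h3 : orderOf C.y ∣ 2 := orderOf_dvd_of_pow_eq_one (by rw [pow_two]; nth_rw 2 [h]; simp)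
  rw [C.order] at h3
  norm_num at h3

theorem no_pairs {t : G} (ht : t * t = 1) :
    Nat.card {w : G × G // IsConj t w.1 ∧ IsConj t w.2 ∧ w.1 * w.2 = C.y} = 0 := by
  have hsq : ∀ {x : G}, IsConj t x → x * x = 1 := fun {x} hx => by
    obtain ⟨c, rfl⟩ := isConj_iff.1 hx
    rw [show c * t * c⁻¹ * (c * t * c⁻¹) = c * (t * t) * c⁻¹ by group, ht]
    group
  refine Nat.card_eq_zero.2 (Or.inl ⟨fun ⟨⟨u, w⟩, hu, hw, huw⟩ => ?_⟩)
  refine S.not_inverted (hsq hu) ?_
  rw [← show u * w = C.y from huw, mul_inv_rev, inv_eq_of_mul_eq_one_left (hsq hw),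
    inv_eq_of_mul_eq_one_left (hsq hu), ← mul_assoc, hsq hu, one_mul]

theorem thirteen_not_dvd {t : G} (ht : t * t = 1) (ht1 : t ≠ 1) :
    ¬ 13 ∣ Nat.card (Subgroup.centralizer ({t} : Set G)) := fun hd => by
  obtain ⟨x, hx⟩ := exists_prime_orderOf_dvd_card' 13 hd
  obtain ⟨P, hP⟩ := S.three.core.sylow
  obtain ⟨Q, hQ⟩ := (IsPGroup.of_card (n := 1)
    (show Nat.card (Subgroup.zpowers (x : G)) = 13 ^ 1 by
      rw [Nat.card_zpowers, Subgroup.orderOf_coe, hx, pow_one])).exists_le_sylow
  obtain ⟨g, hg⟩ := MulAction.exists_smul_eq G Q P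
  have hxP : g * (x : G) * g⁻¹ ∈ Subgroup.zpowers C.y := by
    rw [hP, ← hg, Sylow.coe_subgroup_smul]
    exact ⟨(x : G), hQ (Subgroup.mem_zpowers _), rfl⟩
  obtain ⟨i, hi⟩ := C.mem_zpowers_iff.1 hxP
  have hi0 : i ≠ 0 := fun e => by
    rw [e, C.yP_zero] at hi
    have h1 : (x : G) = 1 := conj_eq_one_iff.1 hi.symm
    rw [← Subgroup.orderOf_coe, h1, orderOf_one] at hx
    norm_num at hx
  have hc : Commute (x : G) t := Subgroup.mem_centralizer_singleton_iff.1 x.2
  have hc' : Commute (g * (x : G) * g⁻¹) (g * t * g⁻¹) := by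
    show (g * (x : G) * g⁻¹) * (g * t * g⁻¹) = (g * t * g⁻¹) * (g * (x : G) * g⁻¹)
    rw [show (g * (x : G) * g⁻¹) * (g * t * g⁻¹) = g * ((x : G) * t) * g⁻¹ by group, hc.eq]
    group
  have h2 : Commute C.y (g * t * g⁻¹) := by
    have h1 : C.yP 1 = C.yP i ^ (i⁻¹).val := by
      rw [Cyc.yP, Cyc.yP, ← pow_mul, pow_eq_pow_iff_modEq, C.order, ← ZMod.natCast_eq_natCast_iff,
        Nat.cast_mul, ZMod.natCast_zmod_val, ZMod.natCast_zmod_val, ZMod.natCast_zmod_val,
        mul_inv_cancel₀ hi0]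
    rw [← C.yP_one, h1, hi]
    exact hc'.pow_left _
  have h3 := Subgroup.orderOf_dvd_natCard _ (Subgroup.mem_centralizer_singleton_iff.2 h2.eq.symm)
  rw [S.card_y, show orderOf (g * t * g⁻¹) = orderOf t from MulEquiv.orderOf_eq (MulAut.conj g) t,
    orderOf_eq_prime (p := 2) (by rw [pow_two, ht]) ht1] at h3
  norm_num at h3

/-- The values on an involution and the order of its centraliser. -/
theorem involution {t : G} (ht : t * t = 1) (ht1 : t ≠ 1) :
    (a : G → ℂ) t = 4 ∧ (b : G → ℂ) t = 3 ∧ (ν 1 : G → ℂ) t = 0 ∧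
      Nat.card (Subgroup.centralizer ({t} : Set G)) = 48 ∧ Nat.card {x : G // IsConj t x} = 117 := by
  have hreg : ¬ 13 ∣ orderOf t := S.regular_of_pow (n := 2) (by rw [pow_two, ht]) (by norm_num)
  choose r hr h4 hle using fun η : IrrCharacter G => value_involution S.three.core η ht
  have hrel : r (ν 1) = 1 - r a + r b := by
    apply Int.cast_injective (α := ℂ)
    push_cast
    rw [← hr, ← hr, ← hr]
    exact S.exc_eq hreg
  have hK : (Nat.card {x : G // IsConj t x} : ℂ) ≠ 0 := Nat.cast_ne_zero.2 (card_isConj_pos t).ne'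
  have heq : 432 - 36 * (r a * r a) + 16 * (r b * r b) - 27 * (r (ν 1) * r (ν 1)) = 0 := by
    have h1 := S.count_regular hreg hreg
    rw [S.no_pairs ht, Nat.cast_zero, zero_mul, hr, hr, hr] at h1
    have h2 := (mul_eq_zero.1 h1.symm).resolve_left (mul_ne_zero hK hK)
    apply Int.cast_injective (α := ℂ)
    push_cast
    linear_combination (432 : ℂ) * h2
  have h0 := S.three.orth_regular hreg hreg
  rw [if_pos (IsConj.refl t), S.card_exc, hr, hr, hr, map_intCast, map_intCast, map_intCast,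
    Finset.sum_congr rfl (g := fun η : IrrCharacter G => ((r η * r η : ℤ) : ℂ))
      (fun η _ => by rw [hr, map_intCast]; push_cast; ring), ← Int.cast_sum] at h0
  have hcard : (Nat.card (Subgroup.centralizer ({t} : Set G)) : ℤ) =
      1 + r a * r a + r b * r b + 4 * (r (ν 1) * r (ν 1)) + ∑ η ∈ S.three.rest, r η * r η := by
    apply Int.cast_injective (α := ℂ)
    push_cast at h0 ⊢
    linear_combination h0
  have hd432 : Nat.card (Subgroup.centralizer ({t} : Set G)) ∣ 432 := by
    have h := Subgroup.card_subgroup_dvd_card (Subgroup.centralizer ({t} : Set G))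
    rw [S.card, show (5616 : ℕ) = 13 * 432 by norm_num] at h
    exact ((Nat.Prime.coprime_iff_not_dvd (by norm_num)).2 (S.thirteen_not_dvd ht ht1)).symm.dvd_of_dvd_mul_left h
  have hle432 := Nat.le_of_dvd (by norm_num) hd432
  have hnn : 0 ≤ ∑ η ∈ S.three.rest, r η * r η := Finset.sum_nonneg fun η _ => mul_self_nonneg _
  have h12 := h4 a
  have h27 := h4 b
  have hb1 := hle a
  have hb2 := hle (ν 1)
  rw [S.deg_a] at h12 hb1
  rw [S.deg_b] at h27
  rw [S.deg_exc] at hb2
  push_cast at h12 h27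
  have hcases := values_of hb1 hb2 hrel h12 h27 heq (by omega)
  have hy := S.three.count_y hreg
  rw [S.card, S.card_y, S.deg_a, S.deg_b, S.deg_exc, hr, hr, hr] at hy
  have hKy : Nat.card {x : G // IsConj C.y x} = 432 := by
    have := card_isConj_mul C.y
    rw [S.card_y, S.card] at this
    omega
  rw [hKy] at hy
  rcases hcases with ⟨e1, e2⟩ | ⟨e1, e2⟩
  · have e3 : r (ν 1) = 0 := by omega
    rw [e1, e2, e3] at hy
    refine ⟨by rw [hr, e1]; norm_num, by rw [hr, e2]; norm_num, by rw [hr, e3]; norm_num, ?_⟩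
    have h9 : Nat.card {x : G // IsConj t x} =
        9 * Nat.card {w : G × G // IsConj t w.1 ∧ IsConj C.y w.2 ∧ w.1 * w.2 = C.y} := by
      apply Nat.cast_injective (R := ℂ)
      push_cast at hy ⊢
      linear_combination (-9 : ℂ) * hy
    have hm := card_isConj_mul t
    rw [S.card] at hm
    have h26 : 26 ≤ Nat.card (Subgroup.centralizer ({t} : Set G)) := by
      rw [e1, e2, e3] at hcard
      omega
    have hd : Nat.card (Subgroup.centralizer ({t} : Set G)) ∣ 624 :=
      ⟨Nat.card {w : G × G // IsConj t w.1 ∧ IsConj C.y w.2 ∧ w.1 * w.2 = C.y}, by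
        rw [h9] at hm
        nlinarith⟩
    have h48 : Nat.card (Subgroup.centralizer ({t} : Set G)) ∣ 48 := by
      have := Nat.dvd_gcd hd432 hd
      rwa [show Nat.gcd 432 624 = 48 from rfl] at this
    have heq48 : Nat.card (Subgroup.centralizer ({t} : Set G)) = 48 := by
      obtain ⟨k, hk⟩ := h48
      rcases Nat.eq_zero_or_pos k with rfl | hk0
      · simp at hk
      · have : k < 2 := by nlinarith
        interval_cases k
        omega
    rw [heq48] at hm
    exact ⟨heq48, by omega⟩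
  · exfalso
    have e3 : r (ν 1) = -8 := by omega
    rw [e1, e2, e3] at hy
    have h9 : (3 : ℤ) * Nat.card {w : G × G // IsConj t w.1 ∧ IsConj C.y w.2 ∧ w.1 * w.2 = C.y} +
        (Nat.card {x : G // IsConj t x} : ℤ) = 0 := by
      apply Int.cast_injective (α := ℂ)
      push_cast at hy ⊢
      linear_combination (3 : ℂ) * hy
    have := card_isConj_pos t
    omega

/-- All involutions are conjugate. -/
theorem isConj_involutions {t u : G} (ht : t * t = 1) (ht1 : t ≠ 1) (hu : u * u = 1) (hu1 : u ≠ 1) :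
    IsConj t u := by
  by_contra hne
  have hregt : ¬ 13 ∣ orderOf t := S.regular_of_pow (n := 2) (by rw [pow_two, ht]) (by norm_num)
  have hregu : ¬ 13 ∣ orderOf u := S.regular_of_pow (n := 2) (by rw [pow_two, hu]) (by norm_num)
  choose r hr _h4 _hle using fun η : IrrCharacter G => value_involution S.three.core η ht
  choose r' hr' _h4' _hle' using fun η : IrrCharacter G => value_involution S.three.core η hu
  obtain ⟨a1, b1, c1, n1, -⟩ := S.involution ht ht1
  obtain ⟨a2, b2, c2, n2, -⟩ := S.involution hu hu1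
  have e := S.three.orth_regular hregt hregu
  rw [if_neg hne, a1, a2, b1, b2, c1, c2, S.card_exc,
    Finset.sum_congr rfl (g := fun η : IrrCharacter G => ((r η * r' η : ℤ) : ℂ))
      (fun η _ => by rw [hr, hr', map_intCast]; push_cast; rfl), ← Int.cast_sum] at e
  simp only [map_ofNat, map_zero, mul_zero, zero_mul] at e
  have h1 : ∑ η ∈ S.three.rest, r η * r' η = -26 := by
    apply Int.cast_injective (α := ℂ)
    push_cast at e ⊢
    linear_combination -e
  have key : ∀ {v : G} (s : IrrCharacter G → ℤ), (¬ 13 ∣ orderOf v) →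
      (∀ η : IrrCharacter G, (η : G → ℂ) v = (s η : ℂ)) → (a : G → ℂ) v = 4 → (b : G → ℂ) v = 3 →
      (ν 1 : G → ℂ) v = 0 → Nat.card (Subgroup.centralizer ({v} : Set G)) = 48 →
      ∑ η ∈ S.three.rest, s η * s η = 22 := fun {v} s hv hs a0 b0 c0 n0 => by
    have e := S.three.orth_regular hv hv
    rw [if_pos (IsConj.refl v), a0, b0, c0, n0, S.card_exc,
      Finset.sum_congr rfl (g := fun η : IrrCharacter G => ((s η * s η : ℤ) : ℂ))
        (fun η _ => by rw [hs, map_intCast]; push_cast; rfl), ← Int.cast_sum] at e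
    simp only [map_ofNat, map_zero, mul_zero] at e
    apply Int.cast_injective (α := ℂ)
    push_cast at e ⊢
    linear_combination -e
  have k1 := key r hregt hr a1 b1 c1 n1
  have k2 := key r' hregu hr' a2 b2 c2 n2
  have h2 : 0 ≤ ∑ η ∈ S.three.rest, (r η + r' η) * (r η + r' η) :=
    Finset.sum_nonneg fun η _ => mul_self_nonneg _
  have h3 : ∑ η ∈ S.three.rest, (r η + r' η) * (r η + r' η) =
      ∑ η ∈ S.three.rest, r η * r η + 2 * ∑ η ∈ S.three.rest, r η * r' η +
        ∑ η ∈ S.three.rest, r' η * r' η := by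
    rw [Finset.mul_sum, ← Finset.sum_add_distrib, ← Finset.sum_add_distrib]
    exact Finset.sum_congr rfl fun η _ => by ring
  omega

/-- The number of solutions of `u * u = 1` in the centraliser of an involution. -/
theorem card_invol_centralizer {t : G} (ht : t * t = 1) (ht1 : t ≠ 1) :
    Nat.card {u : G // u * u = 1 ∧ u * t = t * u} ∈ ([9, 10, 14, 18] : List ℕ) := by
  have hreg : ¬ 13 ∣ orderOf t := S.regular_of_pow (n := 2) (by rw [pow_two, ht]) (by norm_num)
  choose r hr h4 hle using fun η : IrrCharacter G => value_involution S.three.core η ht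
  obtain ⟨a1, b1, c1, n1, hK⟩ := S.involution ht ht1
  -- the multiplicities of thirteen
  choose! k hk using fun (η : IrrCharacter G) (hη : η ∈ S.three.rest) => S.three.rest_dvd_deg hη
  have hk1 : ∀ η ∈ S.three.rest, 1 ≤ k η ∧ k η ≤ 4 := fun η hη => by
    have h1 := hk η hη
    have h2 := deg_irr_pos η
    have h3 := Finset.single_le_sum (f := fun η : IrrCharacter G => deg (η : G → ℂ) ^ 2)
      (fun _ _ => Nat.zero_le _) hη
    rw [S.rest_deg] at h3
    refine ⟨by omega, ?_⟩
    by_contra hgt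
    have h5 : 65 ≤ deg (η : G → ℂ) := by omega
    have : 65 ^ 2 ≤ deg (η : G → ℂ) ^ 2 := Nat.pow_le_pow_left h5 2
    omega
  have hsqd : ∑ η ∈ S.three.rest, (k η : ℤ) * (k η : ℤ) = 22 := by
    have h1 := S.rest_deg
    rw [Finset.sum_congr rfl (g := fun η : IrrCharacter G => 169 * (k η * k η))
      (fun η hη => by rw [hk η hη]; ring), ← Finset.mul_sum] at h1
    have : ∑ η ∈ S.three.rest, k η * k η = 22 := by omega
    exact_mod_cast this
  have hsq : ∑ η ∈ S.three.rest, r η * r η = 22 := by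
    have e := S.three.orth_regular hreg hreg
    rw [if_pos (IsConj.refl t), a1, b1, c1, n1, S.card_exc,
      Finset.sum_congr rfl (g := fun η : IrrCharacter G => ((r η * r η : ℤ) : ℂ))
        (fun η _ => by rw [hr, map_intCast]; push_cast; rfl), ← Int.cast_sum] at e
    simp only [map_ofNat, map_zero, mul_zero] at e
    apply Int.cast_injective (α := ℂ)
    push_cast at e ⊢
    linear_combination -e
  have hlin : ∑ η ∈ S.three.rest, (k η : ℤ) * r η = -10 := by
    have h1 := sum_deg_mul (G := G) t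
    rw [if_neg ht1, S.three.sum_split,
      Finset.sum_eq_zero (s := Finset.univ.image ν) (fun η hη => by
        rw [S.three.apply_exc hη hreg, c1, mul_zero]),
      Finset.sum_congr rfl (g := fun η : IrrCharacter G => ((13 * ((k η : ℤ) * r η) : ℤ) : ℂ))
        (fun η hη => by rw [hr, irr_apply_one_eq_deg, hk η hη]; push_cast; ring),
      ← Int.cast_sum, ← Finset.mul_sum, irr_apply_one_eq_deg, irr_apply_one_eq_deg, irr_apply_one_eq_deg,
      S.deg_a, S.deg_b, deg_oneG, a1, b1] at h1
    have h2 : (13 : ℤ) * ∑ η ∈ S.three.rest, (k η : ℤ) * r η = -130 := by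
      apply Int.cast_injective (α := ℂ)
      have h3 : (oneG G : G → ℂ) t = 1 := rfl
      rw [h3] at h1
      push_cast at h1 ⊢
      linear_combination h1
    omega
  have hr4 : ∀ η ∈ S.three.rest, (r η).natAbs ≤ 4 := fun η hη => by
    have h1 := Finset.single_le_sum (f := fun η : IrrCharacter G => r η * r η)
      (fun _ _ => mul_self_nonneg _) hη
    rw [hsq] at h1
    by_contra hgt
    have h5 : (5 : ℤ) ≤ r η ∨ r η ≤ -5 := by omega
    rcases h5 with h5 | h5 <;> nlinarith
  have h4k : ∀ η ∈ S.three.rest, (4 : ℤ) ∣ (k η : ℤ) - r η := fun η hη => by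
    have h1 := h4 η
    rw [hk η hη] at h1
    push_cast at h1
    omega
  -- the sums
  set L : List (ℤ × ℤ × ℤ) := S.three.rest.toList.map fun η => step (k η) (r η) with hL
  have hsum : L.sum = ∑ η ∈ S.three.rest, step (k η) (r η) := by
    rw [hL, Finset.sum_map_toList]
  have hj : L.sum.1 = 4 ∧ L.sum.2.1 = 8 := by
    rw [hsum, Prod.fst_sum, Prod.snd_sum, Prod.fst_sum]
    have hq : ∀ η ∈ S.three.rest, 16 * (step (k η) (r η)).1 =
        (k η : ℤ) * k η - 2 * ((k η : ℤ) * r η) + r η * r η ∧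
        4 * (step (k η) (r η)).2.1 = (k η : ℤ) * k η - (k η : ℤ) * r η := fun η hη => by
      obtain ⟨j, hj⟩ := h4k η hη
      simp only [step, hj, Int.mul_ediv_cancel_left _ (show (4 : ℤ) ≠ 0 by norm_num)]
      constructor
      · linear_combination (-(4 * j) - ((k η : ℤ) - r η)) * hj
      · linear_combination -(k η : ℤ) * hj
    have h1 := Finset.sum_congr rfl fun η hη => (hq η hη).1
    have h2 := Finset.sum_congr rfl fun η hη => (hq η hη).2
    rw [← Finset.mul_sum, Finset.sum_add_distrib, Finset.sum_sub_distrib, ← Finset.mul_sum,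
      hsqd, hsq, hlin] at h1
    rw [← Finset.mul_sum, Finset.sum_sub_distrib, hsqd, hlin] at h2
    omega
  have hmem := mem_reach L (fun q hq => by
    obtain ⟨η, hη, rfl⟩ := List.mem_map.1 (hL ▸ hq)
    rw [Finset.mem_toList] at hη
    exact ⟨mem_steps (by have := hk1 η hη; omega) (by have := hk1 η hη; omega) (hr4 η hη) (h4k η hη),
      mul_self_nonneg _⟩) (by omega)
  have hfin := reach_final
  rw [List.all_eq_true] at hfin
  have hT := hfin _ hmem
  simp only [hj.1, hj.2, and_self, decide_true, Bool.not_true, Bool.false_or] at hT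
  rw [List.contains_iff_mem] at hT
  -- the class multiplication
  set n := Nat.card {w : G × G // IsConj t w.1 ∧ IsConj t w.2 ∧ w.1 * w.2 = t}
  have hcount : (n : ℤ) = 40 - L.sum.2.2 := by
    have hf := class_mult_formula t t t
    rw [S.three.sum_split, hK, S.card,
      Finset.sum_eq_zero (s := Finset.univ.image ν) (fun η hη => by
        rw [S.three.apply_exc hη hreg, c1, mul_zero, zero_mul, zero_div]),
      Finset.sum_congr rfl (g := fun η : IrrCharacter G =>
        (((k η : ℤ) * k η - 12 * (step (k η) (r η)).2.1 + 48 * (step (k η) (r η)).1 : ℤ) : ℂ) / 13 -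
          16 * ((step (k η) (r η)).2.2 : ℂ) / 39) (fun η hη => by
        rw [hr, map_intCast, irr_apply_one_eq_deg, hk η hη,
          ← step_identity (by have := hk1 η hη; omega) (by have := hk1 η hη; omega) (h4k η hη)]
        push_cast; rfl),
      Finset.sum_sub_distrib, ← Finset.sum_div, ← Finset.sum_div, ← Int.cast_sum, ← Finset.mul_sum,
      ← Int.cast_sum, Finset.sum_add_distrib, Finset.sum_sub_distrib, ← Finset.mul_sum, ← Finset.mul_sum,
      hsqd, irr_apply_one_eq_deg, irr_apply_one_eq_deg, irr_apply_one_eq_deg, deg_oneG, S.deg_a, S.deg_b,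
      a1, b1] at hf
    have h1 : ∑ η ∈ S.three.rest, (step (k η) (r η)).1 = 4 := by
      have := hj.1; rwa [hsum, Prod.fst_sum] at this
    have h2 : ∑ η ∈ S.three.rest, (step (k η) (r η)).2.1 = 8 := by
      have := hj.2; rwa [hsum, Prod.snd_sum, Prod.fst_sum] at this
    rw [h1, h2] at hf
    have h3 : L.sum.2.2 = ∑ η ∈ S.three.rest, (step (k η) (r η)).2.2 := by
      rw [hsum, Prod.snd_sum, Prod.snd_sum]
    apply Int.cast_injective (α := ℂ)
    have h5 : (oneG G : G → ℂ) t = 1 := rfl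
    rw [h5] at hf
    simp only [map_ofNat, map_one] at hf
    rw [h3]
    push_cast at hf ⊢
    linear_combination hf
  -- the bijection
  have hsq' : ∀ {x : G}, IsConj t x → x * x = 1 ∧ x ≠ 1 := fun {x} hx => by
    obtain ⟨c, rfl⟩ := isConj_iff.1 hx
    refine ⟨?_, fun e => ht1 (conj_eq_one_iff.1 e)⟩
    rw [show c * t * c⁻¹ * (c * t * c⁻¹) = c * (t * t) * c⁻¹ by group, ht]
    group
  set F : Finset G := Finset.univ.filter fun u => u * u = 1 ∧ u * t = t * u
  have hn : n = ((F.erase 1).erase t).card := by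
    rw [← Nat.card_eq_finsetCard]
    refine Nat.card_congr
      { toFun := fun w => ⟨w.1.1, ?_⟩
        invFun := fun u => ⟨(u.1, u.1 * t), ?_⟩
        left_inv := fun w => Subtype.ext (Prod.ext rfl ?_)
        right_inv := fun u => rfl }
    · obtain ⟨⟨u, w⟩, hu, hw, huw⟩ := w
      obtain ⟨hu2, hu1⟩ := hsq' hu
      obtain ⟨hw2, hw1⟩ := hsq' hw
      change u * w = t at huw
      simp only [F, Finset.mem_erase, Finset.mem_filter, Finset.mem_univ, true_and]
      refine ⟨?_, hu1, hu2, ?_⟩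
      · rintro rfl
        exact hw1 (mul_eq_left.1 huw)
      · have h1 : t⁻¹ = t := inv_eq_of_mul_eq_one_left ht
        have h2 : t = w * u := by
          rw [← h1, ← huw, mul_inv_rev, inv_eq_of_mul_eq_one_left hw2, inv_eq_of_mul_eq_one_left hu2]
        conv_lhs => rw [h2, ← mul_assoc, huw]
    · obtain ⟨u, hu⟩ := u
      simp only [F, Finset.mem_erase, Finset.mem_filter, Finset.mem_univ, true_and] at hu
      obtain ⟨hut, hu1, hu2, hc⟩ := hu
      refine ⟨S.isConj_involutions ht ht1 hu2 hu1, S.isConj_involutions ht ht1 ?_ ?_, ?_⟩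
      · rw [show u * t * (u * t) = u * (t * u) * t by group, ← hc, ← mul_assoc, hu2, one_mul, ht]
      · intro e
        exact hut ((eq_inv_of_mul_eq_one_left e).trans (inv_eq_of_mul_eq_one_left ht))
      · show u * (u * t) = t
        rw [← mul_assoc, hu2, one_mul]
    · obtain ⟨⟨u, w⟩, hu, hw, huw⟩ := w
      show u * t = w
      rw [← show u * w = t from huw, ← mul_assoc, (hsq' hu).1, one_mul]
  have hcardF : Nat.card {u : G // u * u = 1 ∧ u * t = t * u} = n + 2 := by
    rw [Nat.card_eq_fintype_card, Fintype.card_subtype, hn]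
    have h1 : (1 : G) ∈ F := by simp [F]
    have h2 : t ∈ F.erase 1 := by simp [F, ht, ht1]
    rw [← Finset.card_erase_add_one h1, ← Finset.card_erase_add_one h2]
  rw [hcardF]
  simp only [List.mem_cons, List.not_mem_nil, or_false] at hT ⊢
  omega

end Setup

end Cfsg.Lib.Small.DegreeGraph.Order5616
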